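import Cfsg.Agent.Lib.SuzUniq.Main
import Cfsg.Agent.S0340

/-!
# Simple Zassenhaus groups up to isomorphism
-/

set_option autoImplicit false
set_option linter.style.haveILetI false
open Cfsg

namespace CfsgLib.SuzUniq

/-- A finite simple Zassenhaus group is `PSL₂(F)` or a Suzuki group, up to isomorphism. -/
theorem zassenhaus_simple {G Ω : Type*} [Group G] [Finite G] [MulAction G Ω]
    [Finite Ω] (hZ : Cfsg.IsZassenhausGroup G Ω) [IsSimpleGroup G] :
    (∃ (F : Type) (_ : Field F) (_ : Fintype F), Nonempty (G ≃* Matrix.ProjectiveSpecialLinearGroup (Fin 2) F)) ∨ Cfsg.Lie.IsoSuzuki G := by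
  classical
  have hz : CfsgLib.Zassenhaus.ZG G Ω := CfsgLib.Zassenhaus.ZG.mk' hZ.1 hZ.2.1 hZ.2.2.1 hZ.2.2.2.1
  haveI := Fintype.ofFinite Ω
  have hn3 := hz.three
  obtain ⟨a⟩ : Nonempty Ω := (Nat.card_pos_iff.mp (by omega)).1
  obtain ⟨b, hb, -⟩ := CfsgLib.Zassenhaus.exists_third hz a a
  have hne := CfsgLib.Zassenhaus.D2_ne_bot hZ hz hb.symm
  rcases Nat.even_or_odd (Nat.card (CfsgLib.Zassenhaus.D2 G a b)) with heven | hodd
  · obtain ⟨F, i1, i2, -, h⟩ := Cfsg.Agent.S0344.result hZ hb.symm heven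
    exact Or.inl ⟨F, i1, i2, h⟩
  obtain ⟨U, hU⟩ := CfsgLib.Zassenhaus.exists_regKernel hz hb.symm hne
  by_cases hc : ∀ x y : U, x * y = y * x
  swap
  · obtain ⟨h2, -⟩ := CfsgLib.Zassenhaus.feit_nonabelian hz hZ.2.2.2.2 hb.symm hne hodd hU hc
    push Not at hc
    exact Or.inr (CfsgLib.SuzUniq.isoSuzuki_of_case hz hb.symm hne hU h2 hc)
  left
  rcases Cfsg.Agent.S0731.result hZ a U hU.le
    ⟨fun u hu g => hU.normal (g : G) g.2 (u : G) hu⟩ ⟨⟨hc⟩⟩ hU.reg with ⟨h3, hsharp⟩ | h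
  swap
  · obtain ⟨K, i1, i2, -, he⟩ := h
    exact ⟨K, i1, i2, he⟩
  -- a sharply triply transitive group
  have hk : Nat.card Ω - 2 ≤ Nat.card (CfsgLib.Zassenhaus.D2 G a b) := by
    obtain ⟨c₀, hc₀a, hc₀b⟩ := CfsgLib.Zassenhaus.exists_third hz a b
    have hex : ∀ c : {c : Ω // c ≠ a ∧ c ≠ b}, ∃ g : CfsgLib.Zassenhaus.D2 G a b, (g : G) • c₀ = c.1 := by
      intro c
      let e₁ : Fin 3 ↪ Ω := ⟨![a, b, c₀], by
        intro i j h
        fin_cases i <;> fin_cases j <;> simp at h ⊢ <;>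
          first | exact hb h.symm | exact hb h | exact hc₀a h.symm | exact hc₀a h | exact hc₀b h.symm | exact hc₀b h⟩
      let e₂ : Fin 3 ↪ Ω := ⟨![a, b, c.1], by
        intro i j h
        fin_cases i <;> fin_cases j <;> simp at h ⊢ <;>
          first | exact hb h.symm | exact hb h | exact c.2.1 h.symm | exact c.2.1 h | exact c.2.2 h.symm | exact c.2.2 h⟩
      obtain ⟨g, hg⟩ := h3.exists_smul_eq e₁ e₂
      have h0 : g • a = a := DFunLike.congr_fun hg 0
      have h1 : g • b = b := DFunLike.congr_fun hg 1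
      have h2 : g • c₀ = c.1 := DFunLike.congr_fun hg 2
      exact ⟨⟨g, CfsgLib.Zassenhaus.mem_D2.mpr ⟨h0, h1⟩⟩, h2⟩
    choose g hg using hex
    have hinj : Function.Injective g := fun c d e => Subtype.ext (by rw [← hg c, ← hg d, e])
    refine le_trans (le_of_eq ?_) (Nat.card_le_card_of_injective g hinj)
    rw [Nat.card_eq_fintype_card, Nat.card_eq_fintype_card, Fintype.card_subtype,
      show (Finset.univ.filter fun c : Ω => c ≠ a ∧ c ≠ b) = (Finset.univ.erase b).erase a by ext c; simp,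
      Finset.card_erase_of_mem (Finset.mem_erase.mpr ⟨hb.symm, Finset.mem_univ _⟩),
      Finset.card_erase_of_mem (Finset.mem_univ _), Finset.card_univ]
    omega
  have hkd := Nat.le_of_dvd (by omega) (CfsgLib.Zassenhaus.card_D2_dvd hz hb.symm)
  obtain ⟨-, p, f, hp, -, hUf⟩ := CfsgLib.Zassenhaus.elementary_of_large hz hb hU (by omega)
  have hUΩ := hU.card_eq hz hb
  obtain ⟨r, hr⟩ := hodd
  have hp2 : p = 2 := by
    have h2 : 2 ∣ p ^ f := ⟨r + 1, by omega⟩
    exact ((Nat.prime_dvd_prime_iff_eq Nat.prime_two hp).mp (Nat.prime_two.dvd_of_dvd_pow h2)).symm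
  subst hp2
  have hf : 1 ≤ f := by
    rcases Nat.eq_zero_or_pos f with rfl | h
    · rw [pow_zero] at hUf; omega
    · exact h
  haveI := hZ.1
  set R := (MulAction.toPermHom G Ω).range with hR
  let e : G ≃* R := MonoidHom.ofInjective MulAction.toPerm_injective
  have h3' : MulAction.IsMultiplyPretransitive R Ω 3 := ⟨fun x y => by
    obtain ⟨g, hg⟩ := h3.exists_smul_eq x y
    exact ⟨e g, by rw [← hg]; rfl⟩⟩
  have hsharp' : ∀ t : Fin 3 ↪ Ω, MulAction.stabilizer R t = ⊥ := fun t => by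
    rw [Subgroup.eq_bot_iff_forall]
    intro r hr
    obtain ⟨g, rfl⟩ := e.surjective r
    have hg : g ∈ MulAction.stabilizer G t := hr
    rw [hsharp t, Subgroup.mem_bot] at hg
    rw [hg, map_one]
  obtain ⟨F, i1, i2, hF, ⟨he⟩⟩ := Cfsg.Agent.S0727.result (α := Ω) hf
    (by rw [← Nat.card_eq_fintype_card]; omega) R h3' hsharp'
  exact ⟨F, i1, i2, CfsgLib.BrauerReynolds.psl_equiv_of_even hf hF (e.trans he)⟩

end CfsgLib.SuzUniq
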