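import Cfsg.Agent.Lib.SuzUniq.Field

/-!
# A group with the coordinates of a Suzuki group

`Coords` records a regular subgroup of type A, the torus and a swapping involution. The relation
`w z w = g h w g⁻¹`, multiplied over two central elements, determines the action of `w` on the points.
-/

set_option autoImplicit false
set_option linter.unusedSectionVars false

namespace CfsgLib.SuzUniq

open MulAction

/-- Coordinates: `T a b` runs over the regular subgroup, `H` over the torus, `w` swaps `oo` and `p0`. -/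
structure Coords (G Ω : Type*) [Group G] [MulAction G Ω] (F : Type*) [Field F] (φ : F ≃+* F)
    (oo p0 : Ω) where
  /-- The regular subgroup. -/
  T : F → F → G
  /-- The torus. -/
  H : Fˣ →* G
  /-- The involution. -/
  w : G
  T_mul : ∀ a b c d, T a b * T c d = T (a + c) (b + d + φ a * c)
  T_oo : ∀ a b, T a b • oo = oo
  H_oo : ∀ l, H l • oo = oo
  H_p0 : ∀ l, H l • p0 = p0
  H_conj : ∀ (l : Fˣ) a b, H l * T a b * (H l)⁻¹ = T (l * a) (nm φ (l : F) * b)
  w_oo : w • oo = p0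
  w_sq : w * w = 1
  w_H : ∀ l, w * H l * w = (H l)⁻¹
  T_inj : ∀ a b c d, T a b • p0 = T c d • p0 → a = c ∧ b = d
  T_surj : ∀ p, p ≠ oo → ∃ a b, T a b • p0 = p
  ne : p0 ≠ oo
  stab : ∀ g : G, g • oo = oo → ∃ a b l, g = T a b * H l

namespace Coords

variable {G Ω : Type*} [Group G] [MulAction G Ω] {F : Type*} [Field F] [Finite F] [CharP F 2]
  {φ : F ≃+* F} {oo p0 : Ω} (C : Coords G Ω F φ oo p0)

/-- The point with coordinates `a`, `b`. -/
def pt (a b : F) : Ω := C.T a b • p0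

theorem T_zero : C.T 0 0 = 1 := by
  have h := C.T_mul 0 0 0 0
  simp only [add_zero, mul_zero] at h
  exact mul_eq_left.1 h

theorem T_inv (a b : F) : (C.T a b)⁻¹ = C.T a (b + nm φ a) := by
  refine inv_eq_of_mul_eq_one_right ?_
  rw [C.T_mul, ← C.T_zero]
  congr 1
  · exact CharTwo.add_self_eq_zero a
  · simp only [nm]; linear_combination (b + a * φ a) * two_zero (F := F)

theorem pt_zero : C.pt 0 0 = p0 := by rw [pt, C.T_zero, one_smul]

theorem pt_inj {a b c d : F} (h : C.pt a b = C.pt c d) : a = c ∧ b = d := C.T_inj a b c d h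

theorem pt_ne (a b : F) : C.pt a b ≠ oo := fun h => C.ne (MulAction.injective (C.T a b) (h.trans (C.T_oo a b).symm))

theorem T_smul_pt (a b c d : F) : C.T a b • C.pt c d = C.pt (a + c) (b + d + φ a * c) := by
  rw [pt, pt, smul_smul, C.T_mul]

theorem H_smul_pt (l : Fˣ) (a b : F) : C.H l • C.pt a b = C.pt (l * a) (nm φ (l : F) * b) := by
  rw [pt, pt, ← C.H_conj, mul_smul, mul_smul]
  congr 2
  exact ((inv_smul_eq_iff (g := C.H l)).2 (C.H_p0 l).symm).symm

theorem w_p0 : C.w • p0 = oo :=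
  calc C.w • p0 = C.w • (C.w • oo) := congrArg (C.w • ·) C.w_oo.symm
    _ = oo := by rw [smul_smul, C.w_sq, one_smul]

theorem w_inv : C.w⁻¹ = C.w := inv_eq_of_mul_eq_one_right C.w_sq

theorem w_mul_H (l : Fˣ) : C.w * C.H l = C.H l⁻¹ * C.w := by
  rw [map_inv, ← C.w_H, mul_assoc (C.w * C.H l), C.w_sq, mul_one]

theorem w_smul_oo_eq (a b : F) (l : Fˣ) : (C.T a b * C.H l * C.w) • oo = C.pt a b := by
  rw [mul_smul, mul_smul, C.w_oo, C.H_p0, pt]

theorem struct_smul_oo (a b c d : F) (l : Fˣ) : (C.T a b * C.H l * C.w * (C.T c d)⁻¹) • oo = C.pt a b := by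
  rw [mul_smul, inv_smul_eq_iff.2 (C.T_oo c d).symm, w_smul_oo_eq]

/-- The structure relation. -/
theorem exists_struct : ∃ (a b : F) (l : Fˣ),
    C.w * C.T 0 1 * C.w = C.T a b * C.H l * C.w * (C.T a b)⁻¹ := by
  set d := C.w * C.T 0 1 * C.w with hd
  have hdd : d * d = 1 := by
    rw [hd, show C.w * C.T 0 1 * C.w * (C.w * C.T 0 1 * C.w) = C.w * C.T 0 1 * (C.w * C.w) * C.T 0 1 * C.w by
      group, C.w_sq, mul_one, mul_assoc C.w (C.T 0 1), C.T_mul,
      show C.T (0 + 0) (1 + 1 + φ 0 * 0) = 1 by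
        rw [add_zero, mul_zero, add_zero, CharTwo.add_self_eq_zero, C.T_zero], mul_one, C.w_sq]
  have hd1 : d • oo ≠ oo := by
    intro h
    rw [hd, mul_smul, mul_smul, C.w_oo] at h
    have := MulAction.injective C.w (h.trans C.w_p0.symm)
    replace : C.T 0 1 • C.pt 0 0 = C.pt 0 0 := by rwa [C.pt_zero]
    rw [T_smul_pt] at this
    exact one_ne_zero (α := F) (by simpa using (C.pt_inj this).2)
  obtain ⟨a, b, hab⟩ := C.T_surj _ hd1
  obtain ⟨a', b', l, he⟩ := C.stab (C.w * (C.T a b)⁻¹ * d) (by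
    rw [mul_smul, mul_smul, ← hab, inv_smul_smul, C.w_p0])
  set c := (↑(l⁻¹ : Fˣ) : F) * a' with hc
  set e := nm φ (↑(l⁻¹ : Fˣ) : F) * b' with he'
  have hconj : C.T a' b' * C.H l = C.H l * C.T c e := by
    rw [hc, he', ← C.H_conj, map_inv, inv_inv]; group
  have hd2 : d = C.T a b * C.H l⁻¹ * C.w * C.T c e := by
    rw [show C.T a b * C.H l⁻¹ * C.w * C.T c e = C.T a b * (C.H l⁻¹ * C.w) * C.T c e by group,
      ← C.w_mul_H, show C.T a b * (C.w * C.H l) * C.T c e = C.T a b * C.w * (C.H l * C.T c e) by group,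
      ← hconj, ← he, show C.T a b * C.w * (C.w * (C.T a b)⁻¹ * d) = C.T a b * (C.w * C.w) * (C.T a b)⁻¹ * d by
        group, C.w_sq, mul_one, mul_inv_cancel, one_mul]
  have hd3 : d = C.T c (e + nm φ c) * C.H l⁻¹ * C.w * C.T a (b + nm φ a) := by
    nth_rw 1 [show d = d⁻¹ from (inv_eq_of_mul_eq_one_right hdd).symm, hd2]
    rw [mul_inv_rev, mul_inv_rev, mul_inv_rev, C.T_inv, C.T_inv, C.w_inv, map_inv, inv_inv,
      show C.T c (e + nm φ c) * (C.w * (C.H l * C.T a (b + nm φ a))) =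
        C.T c (e + nm φ c) * (C.w * C.H l) * C.T a (b + nm φ a) by group, C.w_mul_H, map_inv]
    group
  have hpts : C.pt a b = C.pt c (e + nm φ c) := by
    have h1 := congrArg (fun g : G => g • oo) hd3
    rw [hd2] at h1
    simp only [mul_smul, C.T_oo, C.w_oo, C.H_p0] at h1
    exact h1
  obtain ⟨h1, h2⟩ := C.pt_inj hpts
  refine ⟨a, b, l⁻¹, ?_⟩
  rw [hd2, C.T_inv]
  congr 1
  rw [h2, ← h1]
  congr 1
  linear_combination (-nm φ a) * two_zero (F := F)

/-- Rescaling the coordinates. -/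
def rescale (μ : Fˣ) : Coords G Ω F φ oo p0 where
  T a b := C.T (μ * a) (nm φ (μ : F) * b)
  H := C.H
  w := C.w
  T_mul a b c d := by
    rw [C.T_mul]
    congr 1
    · ring
    · simp only [nm, map_mul]; ring
  T_oo _ _ := C.T_oo _ _
  H_oo := C.H_oo
  H_p0 := C.H_p0
  H_conj l a b := by
    rw [C.H_conj]
    congr 1 <;> ring
  w_oo := C.w_oo
  w_sq := C.w_sq
  w_H := C.w_H
  T_inj a b c d h := by
    obtain ⟨h1, h2⟩ := C.T_inj _ _ _ _ h
    exact ⟨mul_left_cancel₀ μ.ne_zero h1, mul_left_cancel₀ (nm_ne φ μ.ne_zero) h2⟩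
  T_surj p hp := by
    obtain ⟨a, b, h⟩ := C.T_surj p hp
    refine ⟨a / μ, b / nm φ (μ : F), ?_⟩
    rwa [mul_div_cancel₀ _ μ.ne_zero, mul_div_cancel₀ _ (nm_ne φ μ.ne_zero)]
  ne := C.ne
  stab g hg := by
    obtain ⟨a, b, l, h⟩ := C.stab g hg
    exact ⟨a / μ, b / nm φ (μ : F), l, by
      rw [mul_div_cancel₀ _ μ.ne_zero, mul_div_cancel₀ _ (nm_ne φ μ.ne_zero)]; exact h⟩

/-- Replacing `φ` by its inverse. -/
def flip : Coords G Ω F φ.symm oo p0 where
  T a b := C.T (φ.symm a) (b + φ.symm a * a)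
  H := C.H.comp (Units.map (φ.symm : F →* F))
  w := C.w
  T_mul a b c d := by
    rw [C.T_mul]
    congr 1
    · rw [map_add]
    · simp only [map_add, RingEquiv.apply_symm_apply]
      linear_combination (-(φ.symm a * c)) * two_zero (F := F)
  T_oo _ _ := C.T_oo _ _
  H_oo _ := C.H_oo _
  H_p0 _ := C.H_p0 _
  H_conj l a b := by
    simp only [MonoidHom.coe_comp, Function.comp_apply, C.H_conj, Units.coe_map, nm]
    congr 1
    · simp
    · simp [RingEquiv.apply_symm_apply, map_mul]; ring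
  w_oo := C.w_oo
  w_sq := C.w_sq
  w_H _ := C.w_H _
  T_inj a b c d h := by
    obtain ⟨h1, h2⟩ := C.T_inj _ _ _ _ h
    have ha : a = c := φ.symm.injective h1
    subst ha
    exact ⟨rfl, add_right_cancel h2⟩
  T_surj p hp := by
    obtain ⟨a, b, h⟩ := C.T_surj p hp
    exact ⟨φ a, b - a * φ a, by simpa using h⟩
  ne := C.ne
  stab g hg := by
    obtain ⟨a, b, l, h⟩ := C.stab g hg
    refine ⟨φ a, b - a * φ a, Units.map (φ : F →* F) l, ?_⟩
    have e : Units.map (φ.symm : F →* F) (Units.map (φ : F →* F) l) = l := Units.ext (by simp)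
    simp [MonoidHom.coe_comp, e, h]

end Coords

end CfsgLib.SuzUniq
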