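import Mathlib

/-!
# The functional equations of a Suzuki group

For `N x = x * φ x` and `N u = 1 + N t` the structure equations give
`φ t (1 + t) N (1 + u) = κ N t ^ 2 N (1 + u + t)`. This forces `φ (φ x) = x ^ 2` and `κ = 1`.
-/

set_option autoImplicit false
set_option linter.unusedSectionVars false

namespace CfsgLib.SuzUniq

variable {F : Type*} [Field F] [Finite F] [CharP F 2] (φ : F ≃+* F)

/-- The norm form. -/
def nm (x : F) : F := x * φ x

theorem two_zero : (2 : F) = 0 := CharTwo.two_eq_zero

theorem nm_mul (x y : F) : nm φ (x * y) = nm φ x * nm φ y := by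
  simp only [nm, map_mul]; ring

theorem nm_inv (x : F) : nm φ x⁻¹ = (nm φ x)⁻¹ := by
  simp only [nm, map_inv₀, mul_inv]

theorem nm_zero : nm φ 0 = 0 := by simp [nm]

theorem nm_one : nm φ 1 = 1 := by simp [nm]

theorem nm_div (x y : F) : nm φ (x / y) = nm φ x / nm φ y := by
  rw [div_eq_mul_inv, nm_mul, nm_inv, div_eq_mul_inv]

theorem nm_eq_zero {x : F} : nm φ x = 0 ↔ x = 0 := by simp [nm]

theorem nm_ne {x : F} (hx : x ≠ 0) : nm φ x ≠ 0 := fun h => hx ((nm_eq_zero φ).1 h)

variable (hinj : Function.Injective (nm φ))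
include hinj

theorem nm_surjective : Function.Surjective (nm φ) := Finite.surjective_of_injective hinj

/-- No element but `1` has `t * φ t ^ 2 = 1`, as `φ` has odd order. -/
theorem eq_one_of_mul_sq {n : ℕ} (hn : Odd n) (hord : ∀ x : F, φ^[n] x = x)
    (hfrob : ∀ x : F, x ^ 2 ^ n = x) {t : F} (h : t * φ t ^ 2 = 1) : t = 1 := by
  have ht : t ≠ 0 := fun e => by simp [e] at h
  set ψ : F → F := fun x => φ x ^ 2 with hψ
  have hinv : ψ t = t⁻¹ := eq_inv_of_mul_eq_one_right h
  have hψinv : ∀ x, ψ x⁻¹ = (ψ x)⁻¹ := fun x => by simp [hψ, map_inv₀]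
  have hiter : ∀ k, ψ^[2 * k] t = t := by
    intro k
    induction k with
    | zero => rfl
    | succ k ih =>
      rw [show 2 * (k + 1) = (2 * k + 1) + 1 by ring, Function.iterate_succ_apply',
        Function.iterate_succ_apply', ih, hinv, hψinv, hinv, inv_inv]
  have hform : ∀ k x, ψ^[k] x = (φ^[k] x) ^ 2 ^ k := by
    intro k
    induction k with
    | zero => intro x; simp
    | succ k ih =>
      intro x
      rw [Function.iterate_succ_apply', Function.iterate_succ_apply', ih, hψ]
      simp only [map_pow, ← pow_mul]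
      rw [pow_succ]
  obtain ⟨k, hk⟩ := hn
  have h1 := hform n t
  rw [hord, hfrob, hk, show 2 * k + 1 = 1 + 2 * k by ring, Function.iterate_add_apply, hiter,
    Function.iterate_one, hinv] at h1
  replace h1 : t⁻¹ = t := h1
  have h2 : t * t = 1 := by
    nth_rw 1 [← h1]
    exact inv_mul_cancel₀ ht
  have h3 : (t - 1) * (t - 1) = 0 := by linear_combination (norm := grind) h2 - (t - 1) * two_zero (F := F)
  exact sub_eq_zero.1 (mul_self_eq_zero.1 h3)

/-- The first form of the equation excludes other values of `B`. -/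
theorem b_eq_zero_or_one {B κ : F}
    (hT : ∀ t u : F, t ≠ 0 → t ≠ 1 → nm φ u = 1 + nm φ t →
      (nm φ t + B * t + (1 + B) * φ t) * nm φ (1 + u) = κ * nm φ t ^ 2 * nm φ (1 + u + t))
    (hne : ∀ t : F, t ≠ 0 → t ≠ 1 → nm φ t + B * t + (1 + B) * φ t ≠ 0) : B = 0 ∨ B = 1 := by
  have h2 := two_zero (F := F)
  -- the fixed field is the prime field
  have hfix : ∀ t : F, φ t = t → t = 0 ∨ t = 1 := by
    intro t ht
    by_contra h
    push Not at h
    have e : nm φ (1 + t) = 1 + nm φ t := by
      simp only [nm, map_add, map_one, ht]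
      linear_combination (norm := grind) t * h2
    have := hT t (1 + t) h.1 h.2 e
    rw [show 1 + (1 + t) + t = 0 by linear_combination (norm := grind) (1 + t) * h2,
      show 1 + (1 + t) = t by linear_combination (norm := grind) h2, nm_zero, mul_zero] at this
    exact mul_ne_zero (hne t h.1 h.2) (nm_ne φ h.1) this
  by_contra hB
  push Not at hB
  set L : F → F := fun y => (1 + B) * y + B * φ y with hL
  have hL1 : ∀ y : F, L y = 1 → y = 1 := by
    intro y hy
    by_contra h1
    have h0 : y ≠ 0 := fun e => by simp [hL, e] at hy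
    refine hne y⁻¹ (inv_ne_zero h0) (fun e => h1 (inv_eq_one.1 e)) ?_
    have hφ : φ y ≠ 0 := by simpa using h0
    simp only [nm, map_inv₀]
    field_simp
    simp only [hL] at hy
    linear_combination (norm := grind) hy + h2
  have hL0 : ∀ y : F, L y = 0 → y = 0 := by
    intro y hy
    have := hL1 (y + 1) (by
      simp only [hL, map_add, map_one] at hy ⊢
      linear_combination (norm := grind) hy + B * h2)
    linear_combination (norm := grind) this
  classical
  set r : F → F := fun y => if y = 0 then 0 else φ y / y with hr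
  have hrinj : Function.Injective r := by
    intro x y h
    by_cases hx : x = 0 <;> by_cases hy : y = 0
    · rw [hx, hy]
    · simp only [hr, if_pos hx, if_neg hy] at h
      exact absurd h.symm (div_ne_zero (by simpa using hy) hy)
    · simp only [hr, if_pos hy, if_neg hx] at h
      exact absurd h (div_ne_zero (by simpa using hx) hx)
    · simp only [hr, if_neg hx, if_neg hy] at h
      have hφy : φ y ≠ 0 := by simpa using hy
      have : φ (x / y) = x / y := by
        rw [map_div₀, div_eq_div_iff hφy hy]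
        rw [div_eq_div_iff hx hy] at h
        linear_combination (norm := grind) h
      rcases hfix _ this with e | e
      · exact absurd e (div_ne_zero hx hy)
      · exact eq_of_div_eq_one e
  have hB1 : 1 + B ≠ 0 := fun e => hB.2 (by linear_combination (norm := grind) e - h2)
  obtain ⟨y, hy⟩ := (Finite.surjective_of_injective hrinj) ((1 + B) / B)
  have hy0 : y ≠ 0 := fun e => div_ne_zero hB1 hB.1 (by simpa [hr, e] using hy.symm)
  refine hy0 (hL0 y ?_)
  simp only [hr, if_neg hy0] at hy
  rw [div_eq_div_iff hy0 hB.1] at hy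
  simp only [hL]
  linear_combination (norm := grind) hy + (1 + B) * y * h2

/-- The main form of the equation gives `u` and forces `φ ∘ φ` to be squaring. -/
theorem solve {n : ℕ} (hn : Odd n) (hord : ∀ x : F, φ^[n] x = x) (hfrob : ∀ x : F, x ^ 2 ^ n = x)
    {κ : F} (hκ : κ ≠ 0)
    (hT : ∀ t u : F, t ≠ 0 → t ≠ 1 → nm φ u = 1 + nm φ t →
      φ t * (1 + t) * nm φ (1 + u) = κ * nm φ t ^ 2 * nm φ (1 + u + t)) :
    (∀ t u : F, t ≠ 0 → t ≠ 1 → nm φ u = 1 + nm φ t →
      (1 + nm φ t) * u = 1 + t * nm φ t) ∧ (∀ x : F, φ (φ x) = x ^ 2) ∧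
    ((∃ t : F, t ≠ 0 ∧ t ≠ 1) → κ = 1) := by
  have h2 := two_zero (F := F)
  have hb1 : ∀ t : F, t ≠ 1 → nm φ t ≠ 1 := fun t ht e => ht (hinj (e.trans (nm_one φ).symm))
  have heq3 : ∀ t u : F, t ≠ 0 → t ≠ 1 → nm φ u = 1 + nm φ t →
      nm φ t * (1 + t) * nm φ (t + u) = κ * nm φ (1 + u + t) := by
    intro t u ht0 ht1 hu
    have hb := nm_ne φ ht0
    have := hT t⁻¹ (u / t) (inv_ne_zero ht0) (fun e => ht1 (inv_eq_one.1 e)) (by
      rw [nm_div, nm_inv, hu]; field_simp; ring)
    rw [show (1 : F) + u / t = (t + u) / t by field_simp,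
      show (t + u) / t + t⁻¹ = (1 + u + t) / t by field_simp; ring, nm_div, nm_div, nm_inv,
      map_inv₀] at this
    have hφ : φ t ≠ 0 := by simpa using ht0
    simp only [nm] at this ⊢
    field_simp at this
    linear_combination (norm := grind) this
  have hline : ∀ t u : F, t ≠ 0 → t ≠ 1 → nm φ u = 1 + nm φ t →
      ((1 + nm φ t) * u + (1 + t * nm φ t)) *
        ((1 + nm φ t + nm φ t ^ 2) * u + (1 + nm φ t) * (1 + t * nm φ t)) = 0 := by
    intro t u ht0 ht1 hu
    have hb := nm_ne φ ht0
    have e1 := hT t u ht0 ht1 hu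
    have e3 := heq3 t u ht0 ht1 hu
    have ht1' : 1 + t ≠ 0 := fun e => ht1 (by linear_combination (norm := grind) e - h2)
    have hφ : φ t ≠ 0 := by simpa using ht0
    have e : nm φ (1 + u) = t ^ 3 * φ t ^ 2 * nm φ (t + u) := by
      refine mul_left_cancel₀ (mul_ne_zero hφ ht1') ?_
      simp only [nm] at e1 e3 ⊢
      linear_combination (norm := grind) e1 - (t * φ t) ^ 2 * e3
    simp only [nm, map_add, map_one] at e hu ⊢
    linear_combination (norm := grind) u * e + ((1 + u) + t ^ 3 * φ t ^ 2 * (t + u)) * hu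
  have hu : ∀ t u : F, t ≠ 0 → t ≠ 1 → nm φ u = 1 + nm φ t →
      (1 + nm φ t) * u = 1 + t * nm φ t := by
    intro t u ht0 ht1 hu
    rcases mul_eq_zero.1 (hline t u ht0 ht1 hu) with h | h
    · linear_combination (norm := grind) h - (1 + t * nm φ t) * h2
    have hu0 : u ≠ 0 := fun e => by
      rw [e, nm_zero] at hu; exact hb1 t ht1 (by linear_combination (norm := grind) h2 - hu - nm φ t * h2)
    have hu1 : u ≠ 1 := fun e => by
      rw [e, nm_one] at hu; exact nm_ne φ ht0 (by linear_combination (norm := grind) -hu)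
    have hu' : nm φ t = 1 + nm φ u := by linear_combination (norm := grind) -hu - nm φ t * h2 + 0
    rcases mul_eq_zero.1 (hline u t hu0 hu1 hu') with h' | h'
    · rw [hu] at h'
      linear_combination (norm := grind) h' - (1 + t * nm φ t + t) * h2
    exfalso
    refine ht1 (eq_one_of_mul_sq φ hinj hn hord hfrob ?_)
    rw [hu] at h'
    simp only [nm] at h h'
    have h3 : t * (1 + t * φ t ^ 2) = 0 := by
      linear_combination (norm := grind) (1 + t * φ t + (t * φ t) ^ 2) * h' + (t * φ t) * (1 + t * φ t) * h +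
        (t * (t * φ t) * (1 + t * φ t + (t * φ t) ^ 2)) * h2
    linear_combination (norm := grind) (mul_eq_zero.1 h3).resolve_left ht0 - h2
  refine ⟨hu, fun x => ?_, fun ⟨t, ht0, ht1⟩ => ?_⟩
  · rcases eq_or_ne x 0 with rfl | hx0
    · simp
    rcases eq_or_ne x 1 with rfl | hx1
    · simp
    obtain ⟨u, hu'⟩ := nm_surjective φ hinj (1 + nm φ x)
    have h := hu x u hx0 hx1 hu'
    have hφ := congrArg φ h
    simp only [map_mul, map_add, map_one, nm] at hφ
    have hy0 : φ x ≠ 0 := by simpa using hx0
    have hy1 : 1 + φ x ≠ 0 := fun e => hx1 (φ.injective (by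
      rw [map_one]; linear_combination (norm := grind) e - h2))
    simp only [nm] at h hu'
    have key : φ x * (1 + φ x) * (φ (φ x) + x ^ 2) = 0 := by
      linear_combination (norm := grind) (1 + x * (x * φ x)) * hφ - (1 + φ x * φ (φ x)) * φ u * h -
        (1 + φ x * φ (φ x)) * (1 + x * φ x) * hu' + 0
    linear_combination (norm := grind) (mul_eq_zero.1 key).resolve_left (mul_ne_zero hy0 hy1) - x ^ 2 * h2
  · obtain ⟨u, hu'⟩ := nm_surjective φ hinj (1 + nm φ t)
    have h := hu t u ht0 ht1 hu'
    have h3 := heq3 t u ht0 ht1 hu'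
    simp only [nm, map_add, map_one] at h h3 hu'
    have hy0 : φ t ≠ 0 := by simpa using ht0
    have hy1 : 1 + φ t ≠ 0 := fun e => ht1 (φ.injective (by rw [map_one]; linear_combination (norm := grind) e - h2))
    have hx1 : 1 + t ≠ 0 := fun e => ht1 (by linear_combination (norm := grind) e - h2)
    have he : 1 + t * φ t ≠ 0 := fun e => hb1 t ht1 (by rw [nm]; linear_combination (norm := grind) e - h2)
    have hs : 1 + t * (t * φ t) ≠ 0 := fun e => by
      rw [e] at h
      rcases mul_eq_zero.1 h with h' | h'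
      · exact he h'
      · rw [h', zero_mul] at hu'; exact he hu'.symm
    have hv : (1 + t * (t * φ t)) * φ u = (1 + t * φ t) ^ 2 := by
      linear_combination (norm := grind) (1 + t * φ t) * hu' - φ u * h
    have a1 : (1 + t * φ t) * (t + u) = 1 + t := by linear_combination (norm := grind) h + t ^ 2 * φ t * h2
    have a2 : (1 + t * (t * φ t)) * (φ t + φ u) = 1 + φ t := by
      linear_combination (norm := grind) hv + (t ^ 2 * φ t ^ 2 + t * φ t) * h2
    have a3 : (1 + t * φ t) * (1 + u + t) = t * (1 + φ t) := by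
      linear_combination (norm := grind) h + (1 + t ^ 2 * φ t) * h2
    have a4 : (1 + t * (t * φ t)) * (1 + φ u + φ t) = φ t * (1 + t ^ 2) := by
      linear_combination (norm := grind) hv + (1 + t ^ 2 * φ t ^ 2 + t * φ t) * h2
    have key : (κ + 1) * (t * φ t * (1 + φ t) * ((1 + t) * (1 + t))) = 0 := by
      have : t * φ t * (1 + t) * ((1 + t) * (1 + φ t)) = κ * (t * (1 + φ t) * (φ t * (1 + t ^ 2))) := by
        calc _ = t * φ t * (1 + t) * (((1 + t * φ t) * (t + u)) * ((1 + t * (t * φ t)) * (φ t + φ u))) := by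
              rw [a1, a2]
          _ = κ * (((1 + t * φ t) * (1 + u + t)) * ((1 + t * (t * φ t)) * (1 + φ u + φ t))) := by
              linear_combination (norm := grind) (1 + t * φ t) * (1 + t * (t * φ t)) * h3
          _ = _ := by rw [a3, a4]
      linear_combination (norm := grind) this + (t * φ t * (1 + φ t) * ((1 + t) * (1 + t))) * κ * h2 -
        κ * t * φ t * (1 + φ t) * t * h2 + 0
    have := (mul_eq_zero.1 key).resolve_right
      (mul_ne_zero (mul_ne_zero (mul_ne_zero ht0 hy0) hy1) (mul_ne_zero hx1 hx1))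
    linear_combination (norm := grind) this - h2

end CfsgLib.SuzUniq
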