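import Cfsg.Agent.Lib.PGroup.SuzukiTypeA
import Cfsg.Agent.Lib.SuzUniq.Field

/-!
# Equivariant coordinates on a Suzuki `2`-group

The type A extension with the torus acting by scalars, and a section equivariant for the torus.
-/

set_option autoImplicit false
set_option linter.style.haveILetI false
set_option linter.unusedSectionVars false

namespace CfsgLib.SuzUniq

open CfsgLib.SuzukiTypeA CfsgLib.SuzukiCenter CfsgLib.SuzukiQuotient
open CfsgLib

/-- Extensions with the same squaring map are compatibly isomorphic. -/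
theorem exists_compat_iso {P Q F : Type*} [Group P] [Group Q] [Finite P] [Finite Q]
    [AddCommGroup F] {q : F → F} (A : SqExt P F q) (B : SqExt Q F q) : ∃ e : P ≃* Q, (∀ p, B.j (e p) = A.j p) ∧ ∀ t, e (A.ι t) = B.ι t := by
  classical
  let R : Subgroup (P × Q) := MonoidHom.eqLocus (A.j.comp (MonoidHom.fst P Q)) (B.j.comp (MonoidHom.snd P Q))
  have memR : ∀ x : P × Q, x ∈ R ↔ A.j x.1 = B.j x.2 := fun x => Iff.rfl
  set Δ := (A.ι.prod B.ι).range with hΔ
  set Z1 := (A.ι.prod (1 : Multiplicative F →* Q)).range with hZ1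
  have hιj : ∀ t, A.j (A.ι t) = 1 := fun t => (A.exact _).mpr ⟨t, rfl⟩
  have hιj' : ∀ t, B.j (B.ι t) = 1 := fun t => (B.exact _).mpr ⟨t, rfl⟩
  have hΔR : Δ ≤ R := by rintro _ ⟨t, rfl⟩; rw [memR]; exact (hιj t).trans (hιj' t).symm
  have hsq : ∀ x ∈ R, x * x ∈ Δ := fun x hx => ⟨Multiplicative.ofAdd (q (A.j x.1).toAdd),
    Prod.ext (A.sq x.1).symm (by
      show B.ι (Multiplicative.ofAdd (q (A.j x.1).toAdd)) = x.2 * x.2
      rw [B.sq x.2, (memR x).mp hx])⟩
  -- a subgroup containing `Δ` contains the commutators of `R`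
  have hcomm : ∀ Γ : Subgroup (P × Q), Δ ≤ Γ → ∀ a ∈ R, ∀ b ∈ R, a * b * a⁻¹ * b⁻¹ ∈ Γ := by
    intro Γ hΓ a ha b hb
    have h := Γ.mul_mem (Γ.mul_mem (hΓ (hsq a ha)) (hΓ (hsq _ (R.mul_mem (R.inv_mem ha) hb))))
      (Γ.inv_mem (hΓ (hsq b hb)))
    have e : a * a * (a⁻¹ * b * (a⁻¹ * b)) * (b * b)⁻¹ = a * b * a⁻¹ * b⁻¹ := by group
    rwa [e] at h
  obtain ⟨Γ, ⟨hΓΔ, hΓR, hΓZ⟩, hmax⟩ := (Set.toFinite {Γ : Subgroup (P × Q) | Δ ≤ Γ ∧ Γ ≤ R ∧ Γ ⊓ Z1 = ⊥}).exists_maximal
    ⟨Δ, le_rfl, hΔR, by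
      rw [eq_bot_iff]
      rintro _ ⟨⟨t, rfl⟩, u, hu⟩
      have h2 : (1 : Q) = B.ι t := congrArg Prod.snd hu
      have ht : t = 1 := B.inj (h2.symm.trans (map_one B.ι).symm)
      rw [Subgroup.mem_bot, ht, map_one]⟩
  -- `Γ` and `Z1` generate `R`
  have hgen : ∀ x ∈ R, ∃ γ ∈ Γ, ∃ z ∈ Z1, x = γ * z := by
    intro x hx
    by_contra hne
    push Not at hne
    have hconj : ∀ γ ∈ Γ, x * γ * x⁻¹ ∈ Γ := fun γ hγ => by
      have := Γ.mul_mem (hcomm Γ hΓΔ x hx γ (hΓR hγ)) hγ
      rwa [inv_mul_cancel_right] at this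
    have hxx : x * x ∈ Γ := hΓΔ (hsq x hx)
    let Γ' : Subgroup (P × Q) :=
      { carrier := {y | y ∈ Γ ∨ y * x⁻¹ ∈ Γ}
        one_mem' := Or.inl Γ.one_mem
        mul_mem' := fun {a b} ha hb => by
          rcases ha with ha | ha <;> rcases hb with hb | hb
          · exact Or.inl (Γ.mul_mem ha hb)
          · exact Or.inr (by rw [mul_assoc]; exact Γ.mul_mem ha hb)
          · refine Or.inr ?_
            have := Γ.mul_mem ha (hconj b hb)
            rwa [show a * x⁻¹ * (x * b * x⁻¹) = a * b * x⁻¹ by group] at this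
          · refine Or.inl ?_
            have := Γ.mul_mem (Γ.mul_mem ha (hconj _ hb)) hxx
            rwa [show a * x⁻¹ * (x * (b * x⁻¹) * x⁻¹) * (x * x) = a * b by group] at this
        inv_mem' := fun {a} ha => by
          rcases ha with ha | ha
          · exact Or.inl (Γ.inv_mem ha)
          · refine Or.inr ?_
            have := Γ.mul_mem (Γ.inv_mem hxx) (hconj _ (Γ.inv_mem ha))
            rwa [show (x * x)⁻¹ * (x * (a * x⁻¹)⁻¹ * x⁻¹) = x⁻¹ * (x * a⁻¹ * x⁻¹) by group,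
              show x⁻¹ * (x * a⁻¹ * x⁻¹) = a⁻¹ * x⁻¹ by group] at this }
    have hΓ'Z : Γ' ⊓ Z1 = ⊥ := by
      rw [eq_bot_iff]
      rintro y ⟨hy | hy, hyZ⟩
      · exact hΓZ ▸ ⟨hy, hyZ⟩
      · exact absurd (by group : x = (y * x⁻¹)⁻¹ * y) (hne _ (Γ.inv_mem hy) y hyZ)
    have hle : Γ' ≤ Γ := hmax ⟨fun y hy => Or.inl (hΓΔ hy), fun y hy => by
      rcases hy with hy | hy
      · exact hΓR hy
      · have := R.mul_mem (hΓR hy) hx
        rwa [inv_mul_cancel_right] at this, hΓ'Z⟩ (fun y hy => Or.inl hy)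
    have hxΓ : x ∈ Γ := hle (Or.inr (by rw [mul_inv_cancel]; exact Γ.one_mem))
    exact hne x hxΓ 1 Z1.one_mem (mul_one x).symm
  -- the projections are bijective
  let fP : Γ →* P := (MonoidHom.fst P Q).comp Γ.subtype
  let fQ : Γ →* Q := (MonoidHom.snd P Q).comp Γ.subtype
  have hPinj : Function.Injective fP := by
    rw [injective_iff_map_eq_one]
    rintro ⟨⟨p, r⟩, hx⟩ h
    change p = 1 at h
    subst h
    have h1 : A.j 1 = B.j r := hΓR hx
    rw [map_one] at h1
    obtain ⟨t, rfl⟩ := (B.exact r).mp h1.symm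
    have hmem : ((A.ι t)⁻¹, (1 : Q)) ∈ Γ := by
      have := Γ.mul_mem hx (Γ.inv_mem (hΓΔ ⟨t, rfl⟩))
      simpa using this
    have : ((A.ι t)⁻¹, (1 : Q)) ∈ Γ ⊓ Z1 := ⟨hmem, t⁻¹, by simp⟩
    rw [hΓZ, Subgroup.mem_bot] at this
    have ht : t = 1 := A.inj (by simpa using (inv_eq_one.mp (congrArg Prod.fst this)))
    exact Subtype.ext (by simp [ht])
  have hPsurj : Function.Surjective fP := by
    intro p
    obtain ⟨r, hr⟩ := B.surj (A.j p)
    obtain ⟨γ, hγ, z, ⟨u, rfl⟩, he⟩ := hgen (p, r) hr.symm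
    refine ⟨⟨γ * (A.ι.prod B.ι) u, Γ.mul_mem hγ (hΓΔ ⟨u, rfl⟩)⟩, ?_⟩
    exact (congrArg Prod.fst he).symm
  have hQinj : Function.Injective fQ := by
    rw [injective_iff_map_eq_one]
    rintro ⟨⟨p, r⟩, hx⟩ h
    change r = 1 at h
    subst h
    have h1 : A.j p = B.j 1 := hΓR hx
    rw [map_one] at h1
    obtain ⟨t, rfl⟩ := (A.exact p).mp h1
    have : (A.ι t, (1 : Q)) ∈ Γ ⊓ Z1 := ⟨hx, t, by simp⟩
    rw [hΓZ, Subgroup.mem_bot] at this
    exact Subtype.ext this
  have hQsurj : Function.Surjective fQ := by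
    intro r
    obtain ⟨p, hp⟩ := A.surj (B.j r)
    obtain ⟨γ, hγ, z, ⟨u, rfl⟩, he⟩ := hgen (p, r) hp
    exact ⟨⟨γ, hγ⟩, by simpa [fQ] using (congrArg Prod.snd he).symm⟩
  set eP := MulEquiv.ofBijective fP ⟨hPinj, hPsurj⟩
  refine ⟨eP.symm.trans (MulEquiv.ofBijective fQ ⟨hQinj, hQsurj⟩), fun p => ?_, fun t => ?_⟩
  · have hx := (memR _).mp (hΓR (eP.symm p).2)
    rw [show ((eP.symm p : Γ) : P × Q).1 = p from eP.apply_symm_apply p] at hx
    exact hx.symm
  · have hγ : eP.symm (A.ι t) = ⟨(A.ι t, B.ι t), hΓΔ ⟨t, rfl⟩⟩ := eP.symm_apply_eq.mpr rfl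
    rw [MulEquiv.trans_apply, hγ]
    rfl

set_option maxHeartbeats 1600000 in
/-- The extension attached to a setting, with the scalar action of the torus. -/
theorem type_a_strong {P : Type*} [Group P] [Finite P] {K : Subgroup (MulAut P)} (hS : Setting K)
    (hna : ∃ x y : P, x * y ≠ y * x) (hcard : Nat.card P = Nat.card hS.inv ^ 2) :
    ∃ (F : Type) (_ : Field F) (_ : Fintype F) (_ : CharP F 2) (φ : F ≃+* F)
      (A : SqExt P F (fun x => x * φ x)) (lam : K → Fˣ),
      Fintype.card F = Nat.card hS.inv ∧ Function.Surjective lam ∧ Function.Injective (nm φ) ∧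
      (∀ (k : K) p, (A.j ((k : MulAut P) p)).toAdd = (lam k : F) * (A.j p).toAdd) ∧
      ∀ (k : K) t, (k : MulAut P) (A.ι t) = A.ι (Multiplicative.ofAdd (nm φ (lam k : F) * t.toAdd)) := by
  classical
  have hh := upper_inv_eq_top hS hna
  haveI : hS.inv.Normal := inv_normal hS
  haveI : Fact (Nat.Prime 2) := ⟨Nat.prime_two⟩
  set Z := hS.inv with hZ
  have hzc : ∀ v ∈ Z, ∀ g : P, g * v = v * g := fun v hv g => hS.central v hv g
  letI : CommGroup Z :=
    { (inferInstance : Group Z) with mul_comm := fun a b => Subtype.ext (hzc b b.2 a) }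
  have hqc : ∀ a b : P ⧸ Z, a * b = b * a := by
    intro a b
    obtain ⟨x, rfl⟩ := QuotientGroup.mk'_surjective Z a
    obtain ⟨y, rfl⟩ := QuotientGroup.mk'_surjective Z b
    have h := (QuotientGroup.eq_one_iff _).mpr ((hh y).2 x)
    simp only [QuotientGroup.mk_mul, QuotientGroup.mk_inv, mul_inv_eq_iff_eq_mul] at h
    simpa using h
  letI : CommGroup (P ⧸ Z) := { (inferInstance : Group (P ⧸ Z)) with mul_comm := hqc }
  have hK : Nat.card K + 1 = Nat.card Z := card_K hS
  obtain ⟨x₀, -, -, hx₀, hx₀2, -, -⟩ := hS.nontriv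
  haveI : Nontrivial Z := ⟨⟨x₀, hx₀2⟩, 1, fun h => hx₀ (congrArg Subtype.val h)⟩
  have hqcard : Nat.card (P ⧸ Z) = Nat.card Z := by
    have h := Subgroup.card_eq_card_quotient_mul_card_subgroup Z
    rw [hcard, pow_two] at h
    exact (Nat.eq_of_mul_eq_mul_right Nat.card_pos h).symm
  haveI : Nontrivial (P ⧸ Z) :=
    Finite.one_lt_card_iff_nontrivial.mp (hqcard ▸ Finite.one_lt_card)
  have hZk : ∀ k ∈ K, ∀ a ∈ Z, k a ∈ Z := fun k _ a ha => by
    show k a * k a = 1
    rw [← map_mul, show a * a = 1 from ha, map_one]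
  haveI : Finite K := Nat.finite_of_card_ne_zero (by
    have := Finite.one_lt_card (α := Z)
    omega)
  -- the actions
  letI : DistribMulAction K (Additive Z) :=
    { smul := fun k v => Additive.ofMul ⟨(k : MulAut P) (v.toMul : P), hZk k k.2 _ v.toMul.2⟩
      one_smul := fun v => rfl
      mul_smul := fun a b v => rfl
      smul_zero := fun k => congrArg Additive.ofMul (Subtype.ext (map_one (k : MulAut P)))
      smul_add := fun k u v => congrArg Additive.ofMul (Subtype.ext (map_mul (k : MulAut P) _ _)) }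
  let act : K → (P ⧸ Z) →* (P ⧸ Z) := fun k => QuotientGroup.map Z Z (k : MulAut P).toMonoidHom
    (fun a ha => hZk k k.2 a ha)
  letI : DistribMulAction K (Additive (P ⧸ Z)) :=
    { smul := fun k v => Additive.ofMul (act k v.toMul)
      one_smul := fun v => by
        obtain ⟨x, hx⟩ := QuotientGroup.mk'_surjective Z v.toMul
        show Additive.ofMul (act 1 v.toMul) = v
        rw [← hx]; exact (congrArg Additive.ofMul hx)
      mul_smul := fun a b v => by
        obtain ⟨x, hx⟩ := QuotientGroup.mk'_surjective Z v.toMul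
        show Additive.ofMul (act (a * b) v.toMul) = Additive.ofMul (act a (act b v.toMul))
        rw [← hx]; rfl
      smul_zero := fun k => congrArg Additive.ofMul (map_one (act k))
      smul_add := fun k u v => congrArg Additive.ofMul (map_mul (act k) _ _) }
  have hqtr : ∀ v w : Additive (P ⧸ Z), v ≠ 0 → w ≠ 0 → ∃ k : K, k • v = w := by
    intro v w hv hw
    have hne : ∀ k : K, k • v ≠ 0 := fun k h => hv (by rw [← inv_smul_smul k v, h, smul_zero])
    let e : K → {u : Additive (P ⧸ Z) // u ≠ 0} := fun k => ⟨k • v, hne k⟩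
    have he : Function.Injective e := by
      intro k l h
      have h1 : (l⁻¹ * k) • v = v := by
        rw [mul_smul, show k • v = l • v from congrArg Subtype.val h, inv_smul_smul]
      obtain ⟨x, hx⟩ := QuotientGroup.mk'_surjective Z v.toMul
      by_contra hkl
      apply hv
      have hxx : x⁻¹ * ((l⁻¹ * k : K) : MulAut P) x ∈ Z := by
        rw [← QuotientGroup.eq]
        have h2 : act (l⁻¹ * k) v.toMul = v.toMul := congrArg Additive.toMul h1
        rw [← hx] at h2
        exact h2.symm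
      have hxZ := mem_of_fixed_coset hS Z hZk (l⁻¹ * k).2
        (fun e => hkl (inv_mul_eq_one.mp (Subtype.ext e)).symm) hxx
      rw [← ofMul_toMul v, ← hx, QuotientGroup.mk'_apply, (QuotientGroup.eq_one_iff x).mpr hxZ]
      rfl
    haveI : Fintype (Additive (P ⧸ Z)) := Fintype.ofFinite _
    obtain ⟨k, hk⟩ := (he.bijective_of_nat_card_le (by
      rw [Nat.card_eq_fintype_card (α := {u : Additive (P ⧸ Z) // u ≠ 0}), Fintype.card_subtype_compl,
        Fintype.card_subtype_eq, ← Nat.card_eq_fintype_card,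
        show Nat.card (Additive (P ⧸ Z)) = Nat.card Z from hqcard]
      omega)).2 ⟨w, hw⟩
    exact ⟨k, congrArg Subtype.val hk⟩
  obtain ⟨F1, hF1, hF1fin, e1, lam1, hlam1, hel1⟩ := SuzukiField.exists_field (V := Additive Z) (K := K)
    (fun a b => Subtype.ext (hS.comm a a.2 b b.2)) (by
      intro v w hv hw
      obtain ⟨k, hk, hkv⟩ := hS.trans (v.toMul : P) (w.toMul : P)
        (fun h => hv (by rw [← ofMul_toMul v, show v.toMul = 1 from Subtype.ext h]; rfl)) v.toMul.2
        (fun h => hw (by rw [← ofMul_toMul w, show w.toMul = 1 from Subtype.ext h]; rfl)) w.toMul.2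
      exact ⟨⟨k, hk⟩, congrArg Additive.ofMul (Subtype.ext hkv)⟩)
  obtain ⟨F2, hF2, hF2fin, e2, lam2, hlam2, hel2⟩ := SuzukiField.exists_field (V := Additive (P ⧸ Z)) (K := K)
    (fun a b => Subtype.ext (hS.comm a a.2 b b.2)) hqtr
  obtain ⟨n, hn⟩ := IsPGroup.iff_card.mp (hS.two.to_subgroup Z)
  have hn0 : n ≠ 0 := by
    intro h0; have := Finite.one_lt_card (α := Z); rw [hn, h0, pow_zero] at this; omega
  let F := GaloisField 2 n
  haveI : Fintype F := Fintype.ofFinite F
  haveI := Fintype.ofFinite F1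
  haveI := Fintype.ofFinite F2
  have hq : Nat.card F = 2 ^ n := GaloisField.card 2 n hn0
  let r1 : F ≃+* F1 := FiniteField.ringEquivOfCardEq (by
    rw [← Nat.card_eq_fintype_card, ← Nat.card_eq_fintype_card, hq, Nat.card_congr e1.toEquiv]
    exact hn.symm)
  let r2 : F ≃+* F2 := FiniteField.ringEquivOfCardEq (by
    rw [← Nat.card_eq_fintype_card, ← Nat.card_eq_fintype_card, hq, Nat.card_congr e2.toEquiv]
    exact hn.symm.trans hqcard.symm)
  let b : F → P := fun t => ((e1 (r1 t)).toMul : P)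
  let a : P → F := fun p => r2.symm (e2.symm (Additive.ofMul (p : P ⧸ Z)))
  have hbadd : ∀ s t, b (s + t) = b s * b t := fun s t => by simp [b, map_add]
  have hbinj : Function.Injective b := fun s t h =>
    r1.injective (e1.injective (Additive.toMul.injective (Subtype.ext h)))
  have hbZ : ∀ t, b t ∈ Z := fun t => (e1 (r1 t)).toMul.2
  have hbsurj : ∀ v ∈ Z, ∃ t, b t = v := fun v hv =>
    ⟨r1.symm (e1.symm (Additive.ofMul ⟨v, hv⟩)), by simp [b]⟩
  have hb0 : b 0 = 1 := by simp [b]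
  have hamul : ∀ p r, a (p * r) = a p + a r := fun p r => by simp [a, map_add]
  have hasurj : Function.Surjective a := fun t => by
    obtain ⟨x, hx⟩ := QuotientGroup.mk'_surjective Z (e2 (r2 t)).toMul
    exact ⟨x, by simp [a, QuotientGroup.mk'_apply] at *; simp [hx]⟩
  have ha0 : ∀ p, a p = 0 ↔ p ∈ Z := fun p => by simp [a, QuotientGroup.eq_one_iff]
  have hsqwd : ∀ p r, a p = a r → p * p = r * r := by
    intro p r h
    have hv : r⁻¹ * p ∈ Z := by
      rw [← QuotientGroup.eq]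
      exact (Additive.ofMul.injective (e2.symm.injective (r2.symm.injective h))).symm
    calc p * p = r * (r⁻¹ * p) * (r * (r⁻¹ * p)) := by group
      _ = r * ((r⁻¹ * p) * r) * (r⁻¹ * p) := by group
      _ = r * (r * (r⁻¹ * p)) * (r⁻¹ * p) := by rw [hzc _ hv r]
      _ = r * r * ((r⁻¹ * p) * (r⁻¹ * p)) := by group
      _ = r * r := by rw [show (r⁻¹ * p) * (r⁻¹ * p) = 1 from hv, mul_one]
  choose sec hsec using hasurj
  choose sq hsq using fun p => hbsurj _ (hh p).1
  let s : F → F := fun x => sq (sec x)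
  have hs : ∀ p, b (s (a p)) = p * p := fun p => by
    show b (sq (sec (a p))) = _
    rw [hsq]; exact hsqwd _ _ (hsec (a p))
  have hs0 : s 0 = 0 := hbinj (by rw [← (ha0 1).mpr Z.one_mem, hs, one_mul, (ha0 1).mpr Z.one_mem, hb0])
  have hs1 : ∀ x, s x = 0 → x = 0 := by
    intro x h
    have h1 := hs (sec x)
    rw [hsec, h, hb0] at h1
    rw [← hsec x, ha0]; exact h1.symm
  -- equivariance
  let μ1 : K → F := fun k => r1.symm (lam1 k : F1)
  let μ2 : K → F := fun k => r2.symm (lam2 k : F2)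
  have hbk : ∀ (k : K) t, b (μ1 k * t) = (k : MulAut P) (b t) := fun k t => by
    show ((e1 (r1 (μ1 k * t))).toMul : P) = _
    rw [map_mul, RingEquiv.apply_symm_apply, hel1]; rfl
  have hak : ∀ (k : K) p, a ((k : MulAut P) p) = μ2 k * a p := fun k p => by
    show r2.symm (e2.symm _) = r2.symm _ * r2.symm _
    rw [← map_mul]
    congr 1
    apply e2.injective
    rw [hel2, AddEquiv.apply_symm_apply, AddEquiv.apply_symm_apply]
    rfl
  have hμs : ∀ (k : K) x, s (μ2 k * x) = μ1 k * s x := by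
    intro k x
    refine hbinj ?_
    rw [← hsec x, ← hak, hs, hbk, hs, map_mul]
  set s1 := s 1 with hs1def
  have hs1ne : s1 ≠ 0 := fun h => one_ne_zero (hs1 1 h)
  let σ : F → F := fun x => s x / s1
  have hσμ : ∀ k, σ (μ2 k) = μ1 k := fun k => by
    have h := hμs k 1
    rw [mul_one] at h
    show s (μ2 k) / s1 = μ1 k
    rw [h, mul_div_assoc, div_self hs1ne, mul_one]
  have hμ2surj : ∀ x : F, x ≠ 0 → ∃ k, μ2 k = x := fun x hx => by
    obtain ⟨k, hk⟩ := hlam2 (Units.mk0 (r2 x) (by simpa using hx))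
    exact ⟨k, by simp [μ2, hk]⟩
  have hσmul : ∀ x y, σ (x * y) = σ x * σ y := by
    intro x y
    by_cases hx : x = 0
    · simp [σ, hx, hs0]
    obtain ⟨k, rfl⟩ := hμ2surj x hx
    rw [hσμ]
    show s (μ2 k * y) / s1 = _
    rw [hμs, mul_div_assoc]
  have hσinj : Function.Injective σ := by
    intro x y h
    have hxy : s x = s y := by
      exact (div_left_inj' hs1ne).mp h
    by_cases hx : x = 0
    · rw [hx, hs0] at hxy; rw [hx, hs1 y hxy.symm]
    by_cases hy : y = 0
    · rw [hy, hs0] at hxy; exact absurd (hs1 x hxy) hx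
    obtain ⟨k, rfl⟩ := hμ2surj x hx
    obtain ⟨l, rfl⟩ := hμ2surj y hy
    rw [hσμ, hσμ] at h
    have hk : lam1 k = lam1 l := Units.ext (r1.symm.injective h)
    have h1 : (k : MulAut P) x₀ = (l : MulAut P) x₀ := by
      obtain ⟨t, ht⟩ := hbsurj x₀ hx₀2
      rw [← ht, ← hbk, ← hbk]; simp [μ1, hk]
    have h2 := hS.free ((l⁻¹ * k : K) : MulAut P) (l⁻¹ * k).2 x₀ hx₀ hx₀2 (by simp [h1])
    rw [(inv_mul_eq_one.mp (Subtype.ext h2)).symm]
  have hpolar : ∀ p r, b (s (a p + a r) + s (a p) + s (a r)) = r * p * r⁻¹ * p⁻¹ := by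
    intro p r
    have hc := (hh p).2 r
    rw [hbadd, hbadd, ← hamul, hs, hs, hs]
    calc p * r * (p * r) * (p * p) * (r * r)
        = p * (r * p * r⁻¹ * p⁻¹) * p * (r * r) * (p * p) * (r * r) := by group
      _ = (r * p * r⁻¹ * p⁻¹) * p * p * (r * r) * (p * p) * (r * r) := by rw [hzc _ hc p]
      _ = (r * p * r⁻¹ * p⁻¹) * (p * p) * ((r * r) * (p * p)) * (r * r) := by group
      _ = (r * p * r⁻¹ * p⁻¹) * (p * p) * ((p * p) * (r * r)) * (r * r) := by
          rw [← hzc _ (hh r).1 (p * p)]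
      _ = (r * p * r⁻¹ * p⁻¹) * ((p * p) * (p * p)) * ((r * r) * (r * r)) := by group
      _ = r * p * r⁻¹ * p⁻¹ := by
          rw [show (p * p) * (p * p) = 1 from (hh p).1, show (r * r) * (r * r) = 1 from (hh r).1,
            mul_one, mul_one]
  have hsbi : ∀ x y z, s (x + y + z) + s (x + y) + s z
      = (s (x + z) + s x + s z) + (s (y + z) + s y + s z) := by
    intro x y z
    refine hbinj ?_
    rw [← hsec x, ← hsec y, ← hsec z, ← hamul, hbadd (_ + _ + _) (_ + _ + _)]
    rw [hpolar, hpolar, hpolar]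
    have hc := (hh (sec y)).2 (sec z)
    calc sec z * (sec x * sec y) * (sec z)⁻¹ * (sec x * sec y)⁻¹
        = (sec z * sec x * (sec z)⁻¹ * (sec x)⁻¹) * (sec x * (sec z * sec y * (sec z)⁻¹ * (sec y)⁻¹)) * (sec x)⁻¹ := by group
      _ = (sec z * sec x * (sec z)⁻¹ * (sec x)⁻¹) * ((sec z * sec y * (sec z)⁻¹ * (sec y)⁻¹) * sec x) * (sec x)⁻¹ := by
          rw [hzc _ hc (sec x)]
      _ = _ := by group
  obtain ⟨i, j, hij, hform⟩ := quad_form hq σ hσmul
    (fun x y z => by simp only [σ, ← add_div]; rw [hsbi])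
    (by
      obtain ⟨u, v, huv⟩ := hna
      refine ⟨a u, a v, fun h => huv ?_⟩
      have h' : s (a u + a v) + s (a u) + s (a v) = 0 := by
        simp only [σ, ← add_div] at h
        exact (div_eq_zero_iff.mp h).resolve_right hs1ne
      have h2 := hpolar u v
      rw [h', hb0] at h2
      exact (mul_inv_eq_iff_eq_mul.mp (mul_inv_eq_one.mp h2.symm)).symm)
  -- normalization
  have hn1 := SuzukiField.card_pow_pos hq
  set d := (j.val + (n - i.val)) % n with hd
  let φ : F ≃+* F := iterateFrobeniusEquiv F 2 d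
  let ψ : F ≃+* F := iterateFrobeniusEquiv F 2 i.val
  have hφ : ∀ x, φ x = x ^ 2 ^ d := fun x => iterateFrobeniusEquiv_def F 2 d x
  have hψ : ∀ x, ψ x = x ^ 2 ^ i.val := fun x => iterateFrobeniusEquiv_def F 2 i.val x
  have hσ' : ∀ x, σ x = ψ x * φ (ψ x) := by
    intro x
    rw [hform, hψ, hφ, ← pow_mul x, ← pow_add (2 : ℕ), ← SuzukiField.pow_mod_eq hq (i.val + d) x]
    congr 2
    rw [hd, Nat.add_mod_mod, show i.val + (j.val + (n - i.val)) = j.val + n by omega,
      Nat.add_mod_right, Nat.mod_eq_of_lt j.isLt]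
  have hinjφ : Function.Injective fun x : F => x * φ x := by
    intro x y h
    have h' : σ (ψ.symm x) = σ (ψ.symm y) := by rw [hσ', hσ']; simpa using h
    exact ψ.symm.injective (hσinj h')
  let A : SqExt P F (fun x => x * φ x) :=
    { j := MonoidHom.mk' (fun p => Multiplicative.ofAdd (ψ (a p))) (fun p r => by
        rw [hamul, map_add, ofAdd_add]),
      ι := MonoidHom.mk' (fun t => b (s1 * t.toAdd)) (fun u v => by rw [toAdd_mul, mul_add, hbadd]),
      surj := fun t => ⟨sec (ψ.symm t.toAdd), by simp [hsec]⟩,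
      inj := fun u v h => Multiplicative.toAdd.injective (mul_left_cancel₀ hs1ne (hbinj h)),
      exact := fun p => by
        constructor
        · intro h
          have hp : p ∈ Z := (ha0 p).mp (ψ.injective (by simpa using h))
          obtain ⟨t, ht⟩ := hbsurj p hp
          exact ⟨Multiplicative.ofAdd (s1⁻¹ * t), by simp [← mul_assoc, mul_inv_cancel₀ hs1ne, ht]⟩
        · rintro ⟨t, rfl⟩
          simp [(ha0 _).mpr (hbZ _)],
      central := fun t p => hzc _ (hbZ _) p,
      sq := fun p => by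
        show p * p = b (s1 * (ψ (a p) * φ (ψ (a p))))
        rw [← hσ', ← hs p]
        show b _ = b (s1 * (s (a p) / s1))
        rw [mul_div_cancel₀ _ hs1ne] }
  have hμ0 : ∀ k : K, ψ (μ2 k) ≠ 0 := fun k h => by
    have hz : r2.symm (lam2 k : F2) = 0 := ψ.injective (by rw [map_zero]; exact h)
    exact (lam2 k).ne_zero (r2.symm.injective (by rw [hz, map_zero]))
  refine ⟨F, inferInstance, inferInstance, inferInstance, φ, A, fun k => Units.mk0 (ψ (μ2 k)) (hμ0 k),
    by rw [← Nat.card_eq_fintype_card, hq, hn], ?_, hinjφ, fun k p => ?_, fun k t => ?_⟩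
  · intro u
    obtain ⟨k, hk⟩ := hμ2surj (ψ.symm u) (by simp)
    exact ⟨k, Units.ext (by simp [hk])⟩
  · show ψ (a ((k : MulAut P) p)) = ψ (μ2 k) * ψ (a p)
    rw [hak, map_mul]
  · show (k : MulAut P) (b (s1 * t.toAdd)) = b (s1 * (nm φ (ψ (μ2 k)) * t.toAdd))
    rw [← hbk, ← hσμ, hσ', nm]
    congr 1
    ring

end CfsgLib.SuzUniq
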