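import Cfsg.Agent.Lib.SuzUniq.Std
import Cfsg.Agent.Lib.Suzuki.Symp
import Cfsg.Agent.Lib.Suzuki.LieEquiv
import Cfsg.Agent.Lib.PGroup.SuzukiField

/-!
# Coordinates determine the group

With `φ ∘ φ` squaring, `w` acts by the formula of the Suzuki ovoid, and the group is the group of
permutations of the points generated by translations, torus and inversion.
-/

set_option autoImplicit false
set_option linter.unusedSectionVars false
set_option linter.style.haveILetI false

namespace CfsgLib.SuzUniq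

open MulAction

variable {G Ω : Type*} [Group G] [MulAction G Ω] {F : Type*} [Field F] [Finite F] [CharP F 2]
  {φ : F ≃+* F} {oo p0 : Ω}

/-- The function defining the ovoid. -/
def ovf (φ : F ≃+* F) (a b : F) : F := a * b + φ a * a ^ 2 + φ b

/-- The computation for a generic point. -/
theorem orbit_alg (l L t Y u : F) (hl : l ≠ 0) (hL : L ≠ 0) (ht : t ≠ 0) (hY : Y ≠ 0)
    (hx1 : 1 + t ≠ 0) (hY1 : 1 + Y ≠ 0) (hs : 1 + t * (t * Y) ≠ 0) (hb1 : 1 + t * Y ≠ 0)
    (key : (1 + t * Y) * u = 1 + t * (t * Y)) :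
    let a := l * ((1 + t) / t)
    let A := L * ((1 + Y) / Y)
    let ρ := Y / (1 + Y)
    let o := a * (ρ * (a * A)) + A * a ^ 2 + t ^ 2 / (1 + t) ^ 2 * (A * a ^ 2)
    l⁻¹ * (1 + u⁻¹) = ρ * (a * A) / o ∧ l⁻¹ * L⁻¹ * (1 + u⁻¹) = a / o := by
  intro a A ρ o
  have h2 := two_zero (F := F)
  have ho : o = l ^ 2 * L * (1 + t * (t * Y)) / (t * (t * Y)) := by
    simp only [o, a, A, ρ]
    field_simp
    grind
  have hu' : u = (1 + t * (t * Y)) / (1 + t * Y) := (eq_div_iff hb1).2 (by linear_combination key)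
  have hs' : 1 + t ^ 2 * Y ≠ 0 := by rwa [pow_two, mul_assoc]
  have hu1 : 1 + u⁻¹ = t * Y * (1 + t) / (1 + t * (t * Y)) := by
    rw [hu']
    field_simp
    grind
  rw [ho, hu1]
  simp only [a, A, ρ]
  constructor <;> field_simp

namespace Coords

variable (C : Coords G Ω F φ oo p0) (hS : C.w * C.T 0 1 * C.w = C.T 1 0 * C.H 1 * C.w * (C.T 1 0)⁻¹)
  (hinj : Function.Injective (nm φ)) (hsq : ∀ x : F, φ (φ x) = x ^ 2)
  (hkey : ∀ t u : F, t ≠ 0 → t ≠ 1 → nm φ u = 1 + nm φ t → (1 + nm φ t) * u = 1 + t * nm φ t)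
include hS hinj hsq hkey

/-- The action of `w`. -/
theorem w_smul_pt (a b : F) (hab : ¬(a = 0 ∧ b = 0)) :
    C.w • C.pt a b = C.pt (b / ovf φ a b) (a / ovf φ a b) := by
  have h2 := two_zero (F := F)
  rcases eq_or_ne a 0 with rfl | ha
  · have hb : b ≠ 0 := fun e => hab ⟨rfl, e⟩
    obtain ⟨x, rfl⟩ := nm_surjective φ hinj b
    have hx : x ≠ 0 := fun e => hb (by rw [e, nm_zero])
    rw [show C.w • C.pt 0 (nm φ x) = _ from C.w_smul_z hS (Units.mk0 x hx), Units.val_mk0]
    have hφ : φ x ≠ 0 := by simpa using hx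
    congr 1
    · simp only [ovf, nm, map_zero, zero_mul, zero_add, map_mul, hsq]
      field_simp
    · simp [ovf]
  obtain ⟨ρ, rfl⟩ : ∃ ρ, b = ρ * nm φ a := ⟨b / nm φ a, (div_mul_cancel₀ _ (nm_ne φ ha)).symm⟩
  have hφa : φ a ≠ 0 := by simpa using ha
  rcases eq_or_ne ρ 0 with rfl | hρ0
  · -- the orbit of the central elements
    have h := C.w_smul_z hS (Units.mk0 a ha)⁻¹
    rw [Units.val_inv_eq_inv_val, Units.val_mk0, inv_inv, zero_div] at h
    rw [zero_mul, ← h, smul_smul, C.w_sq, one_smul]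
    congr 1
    · simp
    · simp only [ovf, nm, map_zero, mul_zero, add_zero, zero_add, map_inv₀]
      field_simp
  rcases eq_or_ne ρ 1 with rfl | hρ1
  · -- the fixed orbit
    have hz : (C.T 0 1)⁻¹ = C.T 0 1 := by rw [C.T_inv, nm_zero, add_zero]
    have h1 : C.w • C.pt 1 1 = C.pt 1 1 := by
      have h := congrArg (fun g : G => g • oo) (C.w_T_w hS)
      simp only [map_one, inv_one, mul_one, Units.val_one, nm_one, zero_div] at h
      rw [C.T_inv, nm_one, zero_add] at h
      simp only [mul_smul, C.w_oo, C.T_oo] at h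
      exact h
    have e : C.pt a (1 * nm φ a) = C.H (Units.mk0 a ha) • C.pt 1 1 := by
      rw [H_smul_pt, Units.val_mk0, mul_one, mul_one, one_mul]
    rw [e, smul_smul, C.w_mul_H, mul_smul, h1, H_smul_pt, Units.val_inv_eq_inv_val, Units.val_mk0]
    have ho : ovf φ a (1 * nm φ a) = φ a * a ^ 2 := by
      simp only [ovf, nm, map_mul, map_one, hsq]; grind
    rw [ho]
    simp only [nm, map_inv₀]
    congr 1 <;> field_simp
  -- the other orbits
  set a0 := φ.symm ρ⁻¹ with ha0d
  have hφa0 : φ a0 = ρ⁻¹ := φ.apply_symm_apply _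
  have ha0 : a0 ≠ 0 := fun e => inv_ne_zero hρ0 (by rw [← hφa0, e, map_zero])
  have ha01 : a0 + 1 ≠ 0 := fun e => hρ1 (inv_eq_one.1 (by
    rw [← hφa0, show a0 = 1 by linear_combination (norm := grind) e, map_one]))
  set t := (a0 + 1)⁻¹ with ht
  have ht0 : t ≠ 0 := inv_ne_zero ha01
  have ht1 : t ≠ 1 := fun e => ha0 (by
    have := inv_eq_one.1 e
    linear_combination (norm := grind) this)
  obtain ⟨u, hu⟩ := nm_surjective φ hinj (1 + nm φ t)
  have hb1 : 1 + nm φ t ≠ 0 := fun e => ht1 (hinj (by rw [nm_one]; linear_combination (norm := grind) e))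
  have hu0 : u ≠ 0 := fun e => hb1 (by rw [← hu, e, nm_zero])
  have hP := C.w_smul_P hS t u ht0 hu0 hu
  simp only [inv_one, map_one, one_smul, zero_div, zero_add, add_zero] at hP
  have hta : 1 + t⁻¹ = a0 := by rw [ht, inv_inv]; linear_combination (norm := grind) h2
  rw [hta] at hP
  have hl : a / a0 ≠ 0 := div_ne_zero ha ha0
  have hφ0 : φ a0 ≠ 0 := by simpa using ha0
  have e : C.pt a (ρ * nm φ a) = C.H (Units.mk0 (a / a0) hl) • C.pt a0 a0 := by
    rw [H_smul_pt, Units.val_mk0, nm_div]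
    congr 1
    · field_simp
    · simp only [nm]; rw [hφa0]; field_simp
  have key := hkey t u ht0 ht1 hu
  rw [e, smul_smul, C.w_mul_H, mul_smul, hP, H_smul_pt, Units.val_inv_eq_inv_val, Units.val_mk0]
  have hY : φ t ≠ 0 := by simpa using ht0
  have hs : 1 + t * nm φ t ≠ 0 := by rw [← key]; exact mul_ne_zero hb1 hu0
  simp only [nm] at hb1 key hs
  have hY1 : 1 + φ t ≠ 0 := fun e => ht1 (φ.injective (by rw [map_one]; linear_combination (norm := grind) e))
  have hx1 : 1 + t ≠ 0 := fun e => ht1 (by linear_combination (norm := grind) e)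
  have hA0 : φ a0 = (1 + φ t) / φ t := by
    rw [← hta, map_add, map_one, map_inv₀]; field_simp; grind
  have hX0 : a0 = (1 + t) / t := by rw [← hta]; field_simp; grind
  have hρ : ρ = φ t / (1 + φ t) := by rw [← inv_inj, ← hφa0, hA0, inv_div]
  have hφρ : φ ρ = t ^ 2 / (1 + t) ^ 2 := by
    rw [hρ, map_div₀, map_add, map_one, hsq]; congr 1; grind
  set l := a / a0 with hldef
  have hla : a = l * ((1 + t) / t) := by rw [← hX0, hldef, div_mul_cancel₀ _ ha0]
  have hφl : φ l ≠ 0 := by simpa using hl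
  have hla' : φ a = φ l * ((1 + φ t) / φ t) := by rw [← hA0, ← map_mul, hldef, div_mul_cancel₀ _ ha0]
  obtain ⟨g1, g2⟩ := orbit_alg l (φ l) t (φ t) u hl hφl ht0 hY hx1 hY1 hs hb1 key
  have ho : ovf φ a (ρ * nm φ a) = a * (ρ * (a * φ a)) + φ a * a ^ 2 + φ ρ * (φ a * a ^ 2) := by
    simp only [ovf, nm, map_mul, hsq]
  rw [ho, hφρ, hla', hρ, hla]
  simp only [nm, map_inv₀, hla', ← hla] at g1 g2 ⊢
  congr 1

omit hS hinj hsq hkey in
/-- The group is generated by translations, torus and inversion. -/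
theorem exists_decomp (g : G) : (∃ a b l, g = C.T a b * C.H l) ∨
    ∃ a b c d l, g = C.T a b * C.w * (C.T c d * C.H l) := by
  by_cases h : g • oo = oo
  · exact Or.inl (C.stab g h)
  obtain ⟨a, b, hab⟩ := C.T_surj _ h
  obtain ⟨c, d, l, hk⟩ := C.stab ((C.T a b * C.w)⁻¹ * g) (by
    rw [mul_smul, inv_smul_eq_iff, mul_smul, C.w_oo, hab])
  exact Or.inr ⟨a, b, c, d, l, by rw [← hk, mul_inv_cancel_left]⟩

open CfsgLib.Suzuki in
/-- A group with such coordinates is the Suzuki group. -/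
theorem mulEquiv_gp [FaithfulSMul G Ω] [Fintype F] {m : ℕ} [hP : Param F m] :
    Nonempty (G ≃* Gp F m) := by
  classical
  have hq : Nat.card F = 2 ^ (2 * m + 1) := by rw [Nat.card_eq_fintype_card, hP.card]
  have hσ : ∀ x : F, φ x = sg F m x := by
    intro x
    obtain ⟨d, hd⟩ := SuzukiField.eq_frobenius hq φ.toAddEquiv.toAddMonoidHom
      (fun a b => map_mul φ a b) (map_one φ)
    have hd' : ∀ y : F, φ y = y ^ 2 ^ d.val := hd
    have hit : ∀ (k : ℕ) (y : F), φ^[k] y = y ^ 2 ^ (d.val * k) := by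
      intro k
      induction k with
      | zero => intro y; simp
      | succ k ih =>
        intro y
        rw [Function.iterate_succ_apply', ih, hd', ← pow_mul, ← pow_add, Nat.mul_succ]
    have hev : ∀ (k : ℕ) (y : F), φ^[2 * k] y = y ^ 2 ^ k := by
      intro k
      induction k with
      | zero => intro y; simp
      | succ k ih =>
        intro y
        rw [Nat.mul_succ, Function.iterate_add_apply,
          show φ^[2] y = y ^ 2 from hsq y, ih, ← pow_mul, ← pow_succ']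
    have h1 : φ^[2 * m + 1] x = x := by
      rw [hit, mul_comm, pow_mul, ← hP.card]
      exact FiniteField.pow_card_pow _ _
    have h2 := hev (m + 1) x
    rw [show 2 * (m + 1) = 1 + (2 * m + 1) by ring, Function.iterate_add_apply, h1,
      Function.iterate_one] at h2
    rw [h2, sg_def]
  have hov : ∀ a b : F, ovf φ a b = ov m a b := fun a b => by simp only [ovf, ov, hσ]
  -- the points
  let f : Option (F × F) → Ω := fun o => o.elim oo fun q => C.pt q.1 q.2
  have hf : Function.Bijective f := by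
    refine ⟨?_, fun p => ?_⟩
    · rintro (_ | q) (_ | q') h
      · rfl
      · exact absurd h.symm (C.pt_ne _ _)
      · exact absurd h (C.pt_ne _ _)
      · exact congrArg some (Prod.ext (C.pt_inj h).1 (C.pt_inj h).2)
    · by_cases hp : p = oo
      · exact ⟨none, hp.symm⟩
      · obtain ⟨a, b, h⟩ := C.T_surj p hp
        exact ⟨some (a, b), h⟩
  set e : Ω ≃ Pts F m := (Equiv.ofBijective f hf).symm.trans (ptsEquiv F m) with he
  have hsymm : ∀ o, (Equiv.ofBijective f hf).symm (f o) = o := fun o =>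
    (Equiv.ofBijective f hf).symm_apply_apply o
  have heo : e oo = pinf F m := by
    rw [he, Equiv.trans_apply, show oo = f none from rfl, hsymm]; rfl
  have hep : ∀ a b, e (C.pt a b) = paff a b := fun a b => by
    rw [he, Equiv.trans_apply, show C.pt a b = f (some (a, b)) from rfl, hsymm]; rfl
  have hcases : ∀ p : Ω, p = oo ∨ ∃ a b, p = C.pt a b := fun p => by
    by_cases hp : p = oo
    · exact Or.inl hp
    · obtain ⟨a, b, h⟩ := C.T_surj p hp
      exact Or.inr ⟨a, b, h.symm⟩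
  -- the generators correspond
  have hT : ∀ a b (p : Ω), e (C.T a b • p) = gT (m := m) a b • e p := by
    intro a b p
    rcases hcases p with rfl | ⟨c, d, rfl⟩
    · rw [C.T_oo, heo, gT_smul_pinf]
    · rw [C.T_smul_pt, hep, hep, gT_smul_paff, hσ]
  let τ : Fˣ → Fˣ := fun l => Units.map (φ.symm : F →* F) l
  have hH : ∀ l (p : Ω), e (C.H l • p) = gH (m := m) (τ l) • e p := by
    intro l p
    rcases hcases p with rfl | ⟨c, d, rfl⟩
    · rw [C.H_oo, heo, gH_smul_pinf]
    · have h1 : sg F m (τ l : F) = l := by rw [← hσ]; simp [τ]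
      have h2 : (τ l : F) ^ 2 = φ l := by rw [← hsq]; simp [τ]
      rw [C.H_smul_pt, hep, hep, gH_smul_paff, h1, h2]
      rfl
  have hW : ∀ p : Ω, e (C.w • p) = gW F m • e p := by
    intro p
    rcases hcases p with rfl | ⟨a, b, rfl⟩
    · rw [C.w_oo, heo, gW_smul_pinf, ← C.pt_zero, hep]
    · by_cases hab : a = 0 ∧ b = 0
      · obtain ⟨rfl, rfl⟩ := hab
        rw [C.pt_zero, C.w_p0, heo, ← C.pt_zero, hep, gW_smul_zero]
      · rw [C.w_smul_pt hS hinj hsq hkey a b hab, hep, hep, hov]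
        exact (Subtype.ext (ww_smul_pt hP.card hab)).symm
  have hex : ∀ g : G, ∃ g' : Gp F m, ∀ p, e (g • p) = g' • e p := by
    intro g
    rcases C.exists_decomp g with ⟨a, b, l, rfl⟩ | ⟨a, b, c, d, l, rfl⟩
    · exact ⟨gT a b * gH (τ l), fun p => by rw [mul_smul, hT, hH, mul_smul]⟩
    · exact ⟨gT a b * gW F m * (gT c d * gH (τ l)),
        fun p => by rw [mul_smul, mul_smul, mul_smul, hT, hW, hT, hH, mul_smul, mul_smul, mul_smul]⟩
  choose θ hθ using hex
  haveI hfaith : FaithfulSMul (Gp F m) (Pts F m) := (isZassenhaus (F := F) (m := m)).1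
  have huniq : ∀ g g', (∀ p, e (g • p) = g' • e p) → θ g = g' := fun g g' h =>
    eq_of_smul_eq_smul (α := Pts F m) fun q => by
      obtain ⟨p, rfl⟩ := e.surjective q
      rw [← hθ, h]
  let Θ : G →* Gp F m := MonoidHom.mk' θ fun g g' => huniq _ _ fun p => by
    rw [mul_smul, hθ, hθ, mul_smul]
  refine ⟨MulEquiv.ofBijective Θ ⟨fun g g' h => eq_of_smul_eq_smul (α := Ω) fun p => e.injective ?_, ?_⟩⟩
  · rw [hθ, hθ, show θ g = θ g' from h]
  · rw [← MonoidHom.range_eq_top, eq_top_iff, ← closure_eq_top]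
    refine sup_le (sup_le ?_ ?_) (Subgroup.zpowers_le.2 ⟨C.w, huniq _ _ hW⟩)
    · rintro _ ⟨a, b, rfl⟩
      exact ⟨C.T a b, huniq _ _ (hT a b)⟩
    · rintro _ ⟨t, rfl⟩
      refine ⟨C.H (Units.map (φ : F →* F) t), huniq _ _ fun p => ?_⟩
      rw [hH]
      congr 2
      exact Units.ext (by simp [τ])

omit hS hinj hsq hkey in
open CfsgLib.Suzuki in
/-- A group with such coordinates is the Suzuki group of matrices. -/
theorem isoSuzuki {F : Type} [Field F] [Fintype F] [CharP F 2] {φ : F ≃+* F}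
    (C : Coords G Ω F φ oo p0) (hS : C.w * C.T 0 1 * C.w = C.T 1 0 * C.H 1 * C.w * (C.T 1 0)⁻¹)
    (hinj : Function.Injective (nm φ)) (hsq : ∀ x : F, φ (φ x) = x ^ 2)
    (hkey : ∀ t u : F, t ≠ 0 → t ≠ 1 → nm φ u = 1 + nm φ t →
      (1 + nm φ t) * u = 1 + t * nm φ t)
    [FaithfulSMul G Ω] {m : ℕ} (hm : 1 ≤ m) (hF : Fintype.card F = 2 ^ (2 * m + 1)) :
    Cfsg.Lie.IsoSuzuki G := by
  haveI : Param F m := ⟨hm, hF⟩
  obtain ⟨e⟩ := C.mulEquiv_gp hS hinj hsq hkey (m := m)
  exact ⟨F, inferInstance, inferInstance, m, hm, hF, ⟨e.trans (lieEquiv F m)⟩⟩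

end Coords

end CfsgLib.SuzUniq
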