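import Cfsg.Agent.Lib.SuzUniq.Section
import Cfsg.Agent.Lib.SuzUniq.Model
import Cfsg.Agent.Lib.Zassenhaus.SuzukiMain

/-!
# A simple Zassenhaus group with a non-abelian regular `2`-subgroup is a Suzuki group
-/

set_option autoImplicit false
set_option linter.style.haveILetI false
set_option linter.unusedSectionVars false

open MulAction
open scoped Pointwise

namespace CfsgLib.SuzUniq

namespace Coords

variable {G Ω : Type*} [Group G] [MulAction G Ω] {F : Type*} [Field F] [Finite F] [CharP F 2]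
  {φ : F ≃+* F} {oo p0 : Ω} (C : Coords G Ω F φ oo p0) {A B : F} {L : Fˣ}
  (hS : C.w * C.T 0 1 * C.w = C.T A B * C.H L * C.w * (C.T A B)⁻¹)
include hS

/-- The relation, moved by the torus. -/
theorem struct_move (x : Fˣ) : C.w * C.T 0 (nm φ (x : F)) * C.w =
    C.T (A / x) (B / nm φ (x : F)) * C.H (L / x ^ 2) * C.w * (C.T (A / x) (B / nm φ (x : F)))⁻¹ := by
  have hz : C.T 0 (nm φ (x : F)) = C.H x * C.T 0 1 * (C.H x)⁻¹ := by
    rw [C.H_conj, mul_zero, mul_one]
  have hg : C.T (A / x) (B / nm φ (x : F)) = C.H x⁻¹ * C.T A B * (C.H x⁻¹)⁻¹ := by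
    rw [C.H_conj, Units.val_inv_eq_inv_val, nm_inv, inv_mul_eq_div, inv_mul_eq_div]
  have hh : C.H (L / x ^ 2) = C.H x⁻¹ * C.H L * C.H x⁻¹ := by
    rw [← map_mul, ← map_mul]; congr 1; rw [pow_two, div_eq_mul_inv]; simp [mul_comm, mul_left_comm]
  calc C.w * C.T 0 (nm φ (x : F)) * C.w
      = (C.w * C.H x * C.w) * (C.w * C.T 0 1 * C.w) * (C.w * C.H x * C.w)⁻¹ := by
        rw [hz, mul_inv_rev, mul_inv_rev, C.w_inv]
        simp only [mul_assoc]
        rw [show C.w * (C.w * (C.T 0 1 * (C.w * (C.w * ((C.H x)⁻¹ * C.w))))) =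
          (C.w * C.w) * C.T 0 1 * (C.w * C.w) * ((C.H x)⁻¹ * C.w) by group, C.w_sq, one_mul, mul_one]
    _ = C.H x⁻¹ * (C.T A B * C.H L * C.w * (C.T A B)⁻¹) * (C.H x⁻¹)⁻¹ := by rw [C.w_H, hS, map_inv]
    _ = C.H x⁻¹ * C.T A B * C.H L * (C.w * (C.H x⁻¹)⁻¹) * (C.H x⁻¹ * C.T A B * (C.H x⁻¹)⁻¹)⁻¹ := by
        group
    _ = _ := by
        rw [← hg, hh, hg, ← map_inv, inv_inv, C.w_mul_H]
        simp only [map_inv]
        group

/-- Otherwise `q + 1` points would be invariant under the centre, the torus and the involution. -/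
theorem first_ne_zero [Finite G] (hinj : Function.Injective (nm φ))
    (hG : Nat.card G = (Nat.card F ^ 2 + 1) * Nat.card F ^ 2 * (Nat.card F - 1)) : A ≠ 0 := by
  classical
  rintro rfl
  set S : Set Ω := insert oo (Set.range fun c => C.pt 0 c) with hSdef
  have hSfin : S.Finite := (Set.finite_range _).insert _
  have hmem : ∀ g : G, (∀ p ∈ S, g • p ∈ S) → g ∈ stabilizer G S := fun g h => by
    rw [mem_stabilizer_iff]
    refine Set.eq_of_subset_of_ncard_le ?_ ?_ hSfin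
    · rintro _ ⟨p, hp, rfl⟩; exact h p hp
    · exact le_of_eq (Set.ncard_image_of_injective _ (MulAction.injective g)).symm
  have hT : ∀ c, C.T 0 c ∈ stabilizer G S := fun c => hmem _ fun p hp => by
    rcases hp with rfl | ⟨d, rfl⟩
    · exact Or.inl (C.T_oo _ _)
    · exact Or.inr ⟨c + d, by simp [T_smul_pt]⟩
  have hw : C.w ∈ stabilizer G S := hmem _ fun p hp => by
    rcases hp with rfl | ⟨d, rfl⟩
    · exact Or.inr ⟨0, by rw [C.w_oo]; exact C.pt_zero⟩
    rcases eq_or_ne d 0 with rfl | hd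
    · exact Or.inl (show C.w • C.pt 0 0 = oo by rw [C.pt_zero, C.w_p0])
    obtain ⟨x, rfl⟩ := nm_surjective φ hinj d
    have hx : x ≠ 0 := fun e => hd (by rw [e, nm_zero])
    have h := congrArg (fun g : G => g • oo) (C.struct_move hS (Units.mk0 x hx))
    simp only [struct_smul_oo, zero_div, Units.val_mk0] at h
    rw [mul_smul, mul_smul, C.w_oo] at h
    exact Or.inr ⟨_, h.symm⟩
  have horb : MulAction.orbit (stabilizer G S) oo = S := by
    refine Set.Subset.antisymm ?_ ?_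
    · rintro _ ⟨⟨g, hg⟩, rfl⟩
      show g • oo ∈ S
      rw [← mem_stabilizer_iff.mp hg]
      exact Set.smul_mem_smul_set (Or.inl rfl)
    · rintro p (rfl | ⟨c, rfl⟩)
      · exact MulAction.mem_orbit_self _
      · exact ⟨⟨C.T 0 c * C.w, mul_mem (hT c) hw⟩, by
          show (C.T 0 c * C.w) • oo = _
          rw [mul_smul, C.w_oo]; rfl⟩
  have hcard : S.ncard = Nat.card F + 1 := by
    rw [hSdef, Set.ncard_insert_of_notMem (by rintro ⟨c, hc⟩; exact C.pt_ne _ _ hc) (Set.finite_range _),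
      Set.ncard_range_of_injective fun c d h => (C.pt_inj h).2]
  have hdvd : Nat.card F + 1 ∣ Nat.card G := by
    have h1 := MulAction.index_stabilizer (stabilizer G S) oo
    rw [horb, hcard] at h1
    exact (h1 ▸ Subgroup.index_dvd_card _).trans (Subgroup.card_subgroup_dvd_card _)
  obtain ⟨n, hn⟩ : ∃ n, Nat.card F = 2 ^ (n + 1) := by
    haveI := Fintype.ofFinite F
    obtain ⟨k, -, hk⟩ := FiniteField.card F 2
    refine ⟨k - 1, ?_⟩
    rw [Nat.card_eq_fintype_card, hk, Nat.sub_add_cancel (show 1 ≤ (k : ℕ) from k.2)]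
  have hq2 : 2 ≤ Nat.card F := by rw [hn, pow_succ]; linarith [Nat.one_le_two_pow (n := n)]
  have hcop2 : Nat.Coprime (Nat.card F + 1) 2 := by
    rw [Nat.coprime_two_right, hn, pow_succ]; exact ⟨2 ^ n, by ring⟩
  have c1 : Nat.Coprime (Nat.card F + 1) (Nat.card F ^ 2) :=
    Nat.Coprime.pow_right 2 (Nat.coprime_self_add_left.2 (Nat.coprime_one_left _))
  obtain ⟨r, hr⟩ : ∃ r, Nat.card F = r + 1 := ⟨Nat.card F - 1, by omega⟩
  have c2 : Nat.Coprime (Nat.card F + 1) (Nat.card F - 1) := by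
    rw [hr, Nat.add_sub_cancel]
    rw [show r + 1 + 1 = r + 2 by ring, Nat.coprime_self_add_left]
    refine Nat.Coprime.symm (Nat.coprime_two_right.2 ?_)
    have : Even (r + 1) := hr ▸ hn ▸ (Nat.even_pow.2 ⟨even_two, by omega⟩)
    exact Nat.even_add_one.mp this |> Nat.not_even_iff_odd.mp
  have c3 : Nat.Coprime (Nat.card F + 1) (Nat.card F ^ 2 + 1) := by
    rw [hr, show (r + 1) ^ 2 + 1 = r * (r + 1 + 1) + 2 by ring]
    rw [Nat.coprime_mul_right_add_right, show r + 1 + 1 = Nat.card F + 1 by omega]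
    exact hcop2
  rw [hG] at hdvd
  have := Nat.Coprime.eq_one_of_dvd ((c3.mul_right c1).mul_right c2) hdvd
  omega

end Coords

/-- The Frobenius form of an automorphism. -/
theorem iterate_eq_self {F : Type*} [Field F] [Fintype F] [CharP F 2] {n : ℕ}
    (hF : Fintype.card F = 2 ^ n) (φ : F ≃+* F) (x : F) : φ^[n] x = x := by
  obtain ⟨d, hd⟩ := SuzukiField.eq_frobenius (by rw [Nat.card_eq_fintype_card, hF])
    φ.toAddEquiv.toAddMonoidHom (fun a b => map_mul φ a b) (map_one φ)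
  have hd' : ∀ y : F, φ y = y ^ 2 ^ d.val := hd
  have hit : ∀ (k : ℕ) (y : F), φ^[k] y = y ^ 2 ^ (d.val * k) := by
    intro k
    induction k with
    | zero => intro y; simp
    | succ k ih =>
      intro y
      rw [Function.iterate_succ_apply', ih, hd', ← pow_mul, ← pow_add, Nat.mul_succ]
  rw [hit, mul_comm, pow_mul, ← hF]
  exact FiniteField.pow_card_pow _ _

/-- Coordinates determine the group up to isomorphism. -/
theorem Coords.isoSuzuki_of_norm {G Ω : Type*} [Group G] [MulAction G Ω] [FaithfulSMul G Ω]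
    {F : Type} [Field F] [Fintype F] [CharP F 2] {φ : F ≃+* F} {oo p0 : Ω}
    (C : Coords G Ω F φ oo p0) {B : F} {L : Fˣ}
    (hS : C.w * C.T 0 1 * C.w = C.T 1 B * C.H L * C.w * (C.T 1 B)⁻¹)
    (hinj : Function.Injective (nm φ)) {m : ℕ} (hm : 1 ≤ m)
    (hF : Fintype.card F = 2 ^ (2 * m + 1)) : Cfsg.Lie.IsoSuzuki G := by
  classical
  have key : ∀ {ψ : F ≃+* F} (D : Coords G Ω F ψ oo p0) {K : Fˣ},
      D.w * D.T 0 1 * D.w = D.T 1 0 * D.H K * D.w * (D.T 1 0)⁻¹ → Function.Injective (nm ψ) →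
      Cfsg.Lie.IsoSuzuki G := by
    intro ψ D K hD hψ
    have hT : ∀ t u : F, t ≠ 0 → t ≠ 1 → nm ψ u = 1 + nm ψ t →
        ψ t * (1 + t) * nm ψ (1 + u) = nm ψ (K : F) * nm ψ t ^ 2 * nm ψ (1 + u + t) := by
      intro t u ht0 ht1 hu
      rw [← (D.equation hD hψ t u ht0 ht1 hu).2]
      simp only [nm]
      ring
    obtain ⟨hkey, hsq, hK⟩ := solve ψ hψ (n := 2 * m + 1) ⟨m, rfl⟩ (iterate_eq_self hF ψ)
      (fun x => by rw [← hF]; exact FiniteField.pow_card x) (nm_ne ψ K.ne_zero) hT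
    have hK1 : (K : F) = 1 := hψ (by
      rw [nm_one]
      refine hK ?_
      by_contra h
      push Not at h
      have h2 : Fintype.card F ≤ ({0, 1} : Finset F).card := Finset.card_le_card fun t _ => by
        by_cases ht : t = 0 <;> simp [ht, h t]
      have := Finset.card_le_two (a := (0 : F)) (b := 1)
      have : 2 ^ 3 ≤ 2 ^ (2 * m + 1) := Nat.pow_le_pow_right (by norm_num) (by omega)
      omega)
    have hKu : K = 1 := Units.ext hK1
    subst hKu
    exact D.isoSuzuki hD hψ hsq hkey hm hF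
  rcases b_eq_zero_or_one φ hinj
    (fun t u ht0 ht1 hu => (C.equation hS hinj t u ht0 ht1 hu).2)
    (fun t ht0 ht1 => by
      obtain ⟨u, hu⟩ := nm_surjective φ hinj (1 + nm φ t)
      exact (C.equation hS hinj t u ht0 ht1 hu).1) with rfl | rfl
  · exact key C hS hinj
  · refine key C.flip (K := Units.map (φ : F →* F) L) ?_ ?_
    · show C.w * C.T (φ.symm 0) (1 + φ.symm 0 * 0) * C.w =
        C.T (φ.symm 1) (0 + φ.symm 1 * 1) * C.H (Units.map (φ.symm : F →* F) (Units.map (φ : F →* F) L))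
          * C.w * (C.T (φ.symm 1) (0 + φ.symm 1 * 1))⁻¹
      rw [show Units.map (φ.symm : F →* F) (Units.map (φ : F →* F) L) = L from Units.ext (by simp)]
      simpa using hS
    · intro x y h
      refine φ.symm.injective (hinj ?_)
      simp only [nm, RingEquiv.apply_symm_apply] at h ⊢
      linear_combination h

open CfsgLib.Zassenhaus CfsgLib.Char.TINilpotent in
set_option maxHeartbeats 1000000 in
/-- A simple Zassenhaus group with a non-abelian regular `2`-subgroup is a Suzuki group. -/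
theorem isoSuzuki_of_case {G Ω : Type*} [Group G] [Finite G] [MulAction G Ω] [IsSimpleGroup G]
    (hz : ZG G Ω) {a b : Ω} (hab : a ≠ b) (hne : D2 G a b ≠ ⊥)
    {U : Subgroup G} (hU : RegKernel a U) (hU2 : IsPGroup 2 U) (hna : ∃ x y : U, x * y ≠ y * x) :
    Cfsg.Lie.IsoSuzuki G := by
  classical
  haveI := Fintype.ofFinite G
  haveI := finite_points hz
  haveI : Nontrivial U :=
    (Subgroup.nontrivial_iff_ne_bot U).mpr (hU.setting hz hab.symm).ne_bot
  have hodd : Odd (Nat.card (D2 G a b)) := by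
    obtain ⟨n, hn0, hn⟩ := hU2.nontrivial_iff_card.mp inferInstance
    refine Odd.of_dvd_nat ?_ (card_D2_dvd hz hab)
    rw [show Nat.card Ω - 2 = Nat.card U - 1 by rw [hU.card_eq hz hab.symm]; omega, hn]
    exact Nat.Even.sub_odd Nat.one_le_two_pow (Nat.even_pow.mpr ⟨even_two, hn0.ne'⟩) odd_one
  obtain ⟨v, hv, hO⟩ := exists_oddInv hz hab hne hodd hU
  obtain ⟨n, ⟨m, rfl⟩, hn1, hk, hUcard, -⟩ := OddInv.suzuki_structure hO hv hU2 hna
  obtain ⟨K, hK, hKcard, hKrep, -⟩ := OddInv.exists_setting hO hv hU2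
  set hS := hU.setting hz hab.symm
  have hinv : Nat.card hK.inv = 2 ^ (2 * m + 1) := by
    rw [← SuzukiQuotient.card_K hK, hKcard, hk]
  obtain ⟨F, iF, iFin, iC, φ, A, lam, hF, hlam, hinj, hj, hι⟩ :=
    type_a_strong hK hna (by rw [hUcard, hinv])
  rw [hinv] at hF
  have hlamu : Nat.card K = Nat.card Fˣ := by
    rw [Nat.card_units, Nat.card_eq_fintype_card (α := F), hF, hKcard, ← hk, Nat.add_sub_cancel]
  haveI : Finite K := Nat.finite_of_card_ne_zero (by rw [hlamu]; exact Nat.card_pos.ne')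
  have hbij : Function.Bijective lam := hlam.bijective_of_nat_card_le hlamu.le
  obtain ⟨E, hEmul, hEbij, hEeq⟩ := exists_section A lam hbij hj hι
  -- the torus
  choose τ hτ using fun k : K => hKrep k k.2
  have hτinj : Function.Injective τ := fun k l h => Subtype.ext (by rw [← hτ k, ← hτ l, h])
  have hτuniq : ∀ (h h' : D2 G a b), cj hS h = cj hS h' → h = h' := by
    intro h h' e
    obtain ⟨u, hu⟩ := exists_ne (1 : U)
    refine (inv_mul_eq_one.mp (Subtype.ext (hS.free _ (h⁻¹ * h').2 u u.2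
      (fun e' => hu (Subtype.ext e')) (congrArg (Subtype.val : U → G) (a₁ := cj hS (h⁻¹ * h') u) (a₂ := u) ?_))))
    rw [← cj_cj, ← e, cj_cj, inv_mul_cancel, cj_one]
  let σ := (Equiv.ofBijective lam hbij).symm
  have hσmul : ∀ l l', σ (l * l') = σ l * σ l' := fun l l' => hbij.1 (by
    rw [lam_mul A lam hj]
    simp [σ, Equiv.ofBijective_apply_symm_apply])
  have hτmul : ∀ k l, τ (k * l) = τ k * τ l := fun k l => hτuniq _ _ (by
    ext u
    rw [hτ, ← cj_cj, hτ, hτ]
    rfl)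
  let Hh : Fˣ →* G := (D2 G a b).subtype.comp
    (MonoidHom.mk' (fun l => τ (σ l)) fun l l' => by rw [hσmul, hτmul])
  have hHsurj : ∀ d ∈ D2 G a b, ∃ l, Hh l = d := by
    intro d hd
    have hb : Function.Bijective fun l => τ (σ l) :=
      (hτinj.comp σ.injective).bijective_of_nat_card_le
        (by rw [← hlamu, hKcard])
    obtain ⟨l, hl⟩ := hb.2 ⟨d, hd⟩
    exact ⟨l, congrArg Subtype.val hl⟩
  let C : Coords G Ω F φ a b :=
    { T := fun x y => (E x y : G)
      H := Hh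
      w := v
      T_mul := fun x y z t => by rw [← Subgroup.coe_mul, hEmul]
      T_oo := fun x y => hU.le (E x y).2
      H_oo := fun l => (τ (σ l)).2.1
      H_p0 := fun l => (τ (σ l)).2.2
      H_conj := fun l x y => by
        show (τ (σ l) : G) * (E x y : G) * (τ (σ l) : G)⁻¹ = _
        rw [← cj_coe hS, hτ, hEeq, show lam (σ l) = l from Equiv.ofBijective_apply_symm_apply lam hbij l]
      w_oo := hO.va
      w_sq := hv
      w_H := fun l => by
        have h := hO.inv (τ (σ l)) (τ (σ l)).2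
        rwa [inv_eq_of_mul_eq_one_right hv] at h
      T_inj := fun x y z t h => by
        have := hEbij.1 (a₁ := (x, y)) (a₂ := (z, t)) ((hU.reg b _ hab.symm
          (hU.ne_base hz (E z t).2 hab.symm)).unique h rfl)
        exact ⟨congrArg Prod.fst this, congrArg Prod.snd this⟩
      T_surj := fun p hp => by
        obtain ⟨u, hu, -⟩ := hU.reg b p hab.symm hp
        obtain ⟨⟨x, y⟩, rfl⟩ := hEbij.2 u
        exact ⟨x, y, hu⟩
      ne := hab.symm
      stab := fun g hg => by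
        obtain ⟨u, hu, d, hd, rfl⟩ := hU.factor hz hg hab.symm
        obtain ⟨⟨x, y⟩, hxy⟩ := hEbij.2 ⟨u, hu⟩
        obtain ⟨l, hl⟩ := hHsurj d hd
        exact ⟨x, y, l, by rw [hl]; exact congrArg (· * d) (congrArg Subtype.val hxy).symm⟩ }
  haveI : FaithfulSMul G Ω := ⟨fun {g g'} h => (inv_mul_eq_one.mp
    (eq_one_of_fixes_all hz fun p => by rw [mul_smul, ← h, inv_smul_smul]))⟩
  obtain ⟨A₀, B₀, L, hrel⟩ := C.exists_struct
  have hA : A₀ ≠ 0 := C.first_ne_zero hrel hinj (by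
    have hq : Nat.card F = 2 ^ (2 * m + 1) := by rw [Nat.card_eq_fintype_card, hF]
    have h1 := hU.card_eq hz hab.symm
    have h3 := hz.three
    rw [card_group hz hab, hq, ← hUcard, show Nat.card Ω - 1 = Nat.card U by omega,
      show Nat.card Ω = Nat.card U + 1 by omega,
      ← hk, Nat.add_sub_cancel])
  obtain ⟨μ₀, hμ₀⟩ : ∃ μ : F, μ ^ 2 = A₀ := FiniteField.isSquare_of_char_two (ringChar.eq F 2) A₀ |>.exists_sq _ |> fun ⟨c, hc⟩ => ⟨c, hc.symm⟩
  have hμ : μ₀ ≠ 0 := fun e => hA (by rw [← hμ₀, e]; ring)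
  set μ := Units.mk0 μ₀ hμ
  refine (C.rescale μ).isoSuzuki_of_norm (B := B₀ / nm φ μ₀ ^ 2) (L := L / μ ^ 2) ?_ hinj
    (m := m) (by omega) hF
  have h := C.struct_move hrel μ
  show C.w * C.T (μ₀ * 0) (nm φ μ₀ * 1) * C.w = C.T (μ₀ * 1) (nm φ μ₀ * (B₀ / nm φ μ₀ ^ 2)) *
    C.H (L / μ ^ 2) * C.w * (C.T (μ₀ * 1) (nm φ μ₀ * (B₀ / nm φ μ₀ ^ 2)))⁻¹
  have hn := nm_ne φ hμ
  rw [Units.val_mk0, show A₀ / μ₀ = μ₀ by rw [← hμ₀]; field_simp] at h
  rwa [mul_zero, mul_one, mul_one, show nm φ μ₀ * (B₀ / nm φ μ₀ ^ 2) = B₀ / nm φ μ₀ by field_simp]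

end CfsgLib.SuzUniq
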