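import Cfsg.Agent.Lib.SuzUniq.Ext

/-!
# An equivariant section

Averaging over the torus, whose order is odd, gives coordinates `E a b` with the cocycle `φ a * c`
on which the torus acts by scalars.
-/

set_option autoImplicit false
set_option linter.style.haveILetI false
set_option linter.unusedSectionVars false

namespace CfsgLib.SuzUniq

open CfsgLib.SuzukiTypeA

variable {P : Type*} [Group P] [Finite P] {F : Type} [Field F] [Fintype F] [CharP F 2] {φ : F ≃+* F}
  (A : SqExt P F (fun x => x * φ x)) {K : Subgroup (MulAut P)} (lam : K → Fˣ)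
  (hbij : Function.Bijective lam)
  (hj : ∀ (k : K) p, (A.j ((k : MulAut P) p)).toAdd = (lam k : F) * (A.j p).toAdd)
  (hι : ∀ (k : K) t, (k : MulAut P) (A.ι t) = A.ι (Multiplicative.ofAdd (nm φ (lam k : F) * t.toAdd)))
include hbij hj hι

omit hbij hι in
theorem lam_mul (k l : K) : lam (k * l) = lam k * lam l := by
  obtain ⟨p, hp⟩ := A.surj (Multiplicative.ofAdd (1 : F))
  have h := hj (k * l) p
  rw [Subgroup.coe_mul, MulAut.mul_apply, hj, hj, hp, toAdd_ofAdd, mul_one, mul_one] at h
  exact Units.ext (by rw [Units.val_mul, h])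

/-- The coordinates. -/
theorem exists_section : ∃ E : F → F → P,
    (∀ a b c d, E a b * E c d = E (a + c) (b + d + φ a * c)) ∧
    Function.Bijective (fun q : F × F => E q.1 q.2) ∧
    ∀ (k : K) a b, (k : MulAut P) (E a b) = E ((lam k : F) * a) (nm φ (lam k : F) * b) := by
  classical
  haveI : Finite ↥(Cfsg.suzukiTypeA F (φ : F →+* F)) := Finite.of_injective _ Subtype.val_injective
  obtain ⟨e, hej, heι⟩ := exists_compat_iso (sqExtTypeA (φ : F →+* F)) A
  let S : F → P := fun x => e ⟨mkA (φ : F →+* F) x 0, mkA_mem _ x 0⟩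
  let I : F → P := fun t => A.ι (Multiplicative.ofAdd t)
  have hI : ∀ s t, I (s + t) = I s * I t := fun s t => map_mul A.ι (.ofAdd s) (.ofAdd t)
  have hIinj : ∀ {s t}, I s = I t → s = t := fun h => Multiplicative.ofAdd.injective (A.inj h)
  have hIc : ∀ p t, p * I t = I t * p := fun p t => A.central _ p
  have hjS : ∀ x, A.j (S x) = Multiplicative.ofAdd x := fun x => (hej _).trans rfl
  have hjI : ∀ t, A.j (I t) = 1 := fun t => (A.exact _).2 ⟨_, rfl⟩
  have hSmul : ∀ x y, S x * S y = S (x + y) * I (φ x * y) := by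
    intro x y
    show e _ * e _ = e _ * A.ι _
    rw [← heι, ← map_mul, ← map_mul]
    congr 1
    refine Subtype.ext ?_
    show mkA (φ : F →+* F) x 0 * mkA (φ : F →+* F) y 0 =
      mkA (φ : F →+* F) (x + y) 0 * mkA (φ : F →+* F) 0 (φ x * y)
    rw [mkA_mul, mkA_mul]
    congr 1 <;> simp
  -- the twisted sections
  let Sk : K → F → P := fun k x => (k : MulAut P) (S ((lam k : F)⁻¹ * x))
  have hex : ∀ k x, ∃ d, Sk k x = S x * I d := by
    intro k x
    obtain ⟨t, ht⟩ := (A.exact ((S x)⁻¹ * Sk k x)).1 (by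
      rw [map_mul, map_inv, inv_mul_eq_one, hjS]
      refine Multiplicative.toAdd.injective ?_
      rw [hj, hjS, toAdd_ofAdd, toAdd_ofAdd, mul_inv_cancel_left₀ (lam k).ne_zero])
    exact ⟨t.toAdd, by simp [I, ht]⟩
  choose d hd using hex
  have hswap : ∀ x s y t, (S x * I s) * (S y * I t) = S (x + y) * I (φ x * y + s + t) := by
    intro x s y t
    rw [mul_assoc, ← mul_assoc (I s), ← hIc (S y) s, mul_assoc (S y), ← mul_assoc (S x), hSmul,
      mul_assoc, ← hI, ← hI, add_assoc]
  have hadd : ∀ k x y, d k (x + y) = d k x + d k y := by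
    intro k x y
    have h1 : Sk k x * Sk k y = Sk k (x + y) * I (φ x * y) := by
      show (k : MulAut P) _ * (k : MulAut P) _ = (k : MulAut P) _ * _
      rw [← map_mul, hSmul, map_mul, ← mul_add]
      congr 1
      show (k : MulAut P) (A.ι _) = A.ι _
      rw [hι, toAdd_ofAdd]
      congr 2
      have := (lam k).ne_zero
      have : φ (lam k : F) ≠ 0 := by simpa using this
      simp only [nm, map_mul, map_inv₀]
      field_simp
    rw [hd, hd, hd, hswap, mul_assoc, ← hI] at h1
    have := hIinj (mul_left_cancel h1)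
    linear_combination -this
  haveI : Fintype K := Fintype.ofBijective (Function.invFun lam)
    ⟨Function.RightInverse.injective (Function.rightInverse_invFun hbij.2),
     Function.LeftInverse.surjective (Function.leftInverse_invFun hbij.1)⟩
  have hKodd : (Fintype.card K : F) = 1 := by
    rw [Fintype.card_of_bijective hbij, Fintype.card_units]
    have h := FiniteField.cast_card_eq_zero F
    rw [show Fintype.card F = (Fintype.card F - 1) + 1 by
      have := Fintype.card_pos (α := F); omega, Nat.cast_add, Nat.cast_one] at h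
    linear_combination h - two_zero (F := F)
  have hcoc : ∀ (k l : K) x, d (k * l) x = d k x + nm φ (lam k : F) * d l ((lam k : F)⁻¹ * x) := by
    intro k l x
    refine hIinj (mul_left_cancel (a := S x) ?_)
    rw [← hd, hI, ← mul_assoc, ← hd]
    show ((k * l : K) : MulAut P) (S (((lam (k * l) : Fˣ) : F)⁻¹ * x)) = _
    rw [Subgroup.coe_mul, MulAut.mul_apply, lam_mul A lam hj, Units.val_mul, mul_inv,
      mul_comm ((lam k : F)⁻¹) ((lam l : F)⁻¹), mul_assoc]
    show (k : MulAut P) (Sk l ((lam k : F)⁻¹ * x)) = _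
    rw [hd, map_mul]
    congr 1
    exact hι k _
  set D : F → F := fun x => ∑ k, d k x with hD
  have hDadd : ∀ x y, D (x + y) = D x + D y := fun x y => by
    simp only [hD, hadd, Finset.sum_add_distrib]
  have hDk : ∀ (k : K) x, D x = d k x + nm φ (lam k : F) * D ((lam k : F)⁻¹ * x) := by
    intro k x
    conv_lhs => rw [hD]
    simp only
    rw [← Equiv.sum_comp (Equiv.mulLeft k) fun l => d l x]
    simp only [Equiv.coe_mulLeft, hcoc, Finset.sum_add_distrib, Finset.sum_const, Finset.card_univ,
      nsmul_eq_mul, hKodd, one_mul, hD, Finset.mul_sum]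
  refine ⟨fun a b => S a * I (D a + b), fun a b c c' => ?_, ⟨?_, fun p => ?_⟩, fun k a b => ?_⟩
  · simp only
    rw [hswap, hDadd]
    congr 2
    ring
  · rintro ⟨a, b⟩ ⟨a', b'⟩ h
    simp only at h
    have h1 := congrArg A.j h
    rw [map_mul, map_mul, hjS, hjS, hjI, hjI, mul_one, mul_one] at h1
    obtain rfl := Multiplicative.ofAdd.injective h1
    exact Prod.ext rfl (add_left_cancel (hIinj (mul_left_cancel h)))
  · set x := (A.j p).toAdd
    obtain ⟨t, ht⟩ := (A.exact ((S x)⁻¹ * p)).1 (by rw [map_mul, map_inv, hjS, inv_mul_eq_one]; rfl)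
    refine ⟨(x, t.toAdd - D x), ?_⟩
    simp only [add_sub_cancel]
    show S x * A.ι t = p
    rw [ht, mul_inv_cancel_left]
  · simp only
    rw [map_mul, show (k : MulAut P) (I (D a + b)) = _ from hι k _,
      show (k : MulAut P) (S a) = Sk k ((lam k : F) * a) by
        simp only [Sk, inv_mul_cancel_left₀ (lam k).ne_zero], hd, toAdd_ofAdd]
    show S _ * I _ * I (nm φ (lam k : F) * (D a + b)) = _
    rw [mul_assoc, ← hI, hDk k ((lam k : F) * a), inv_mul_cancel_left₀ (lam k).ne_zero]
    congr 2
    ring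

end CfsgLib.SuzUniq
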