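import Cfsg.Agent.Lib.SuzUniq.Coords

/-!
# The action of the swapping involution

With `w z₁ w = g₁ h w g₁⁻¹`, `g₁ = T 1 B`, the products of two such relations give the functional
equation of `Field`, hence `φ ∘ φ` is squaring and `w` acts as on the Suzuki ovoid.
-/

set_option autoImplicit false
set_option linter.unusedSectionVars false

namespace CfsgLib.SuzUniq

open MulAction

variable {G Ω : Type*} [Group G] [MulAction G Ω] {F : Type*} [Field F] [Finite F] [CharP F 2]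
  {φ : F ≃+* F} {oo p0 : Ω}

namespace Coords

variable (C : Coords G Ω F φ oo p0) {B : F} {K : Fˣ}
  (hS : C.w * C.T 0 1 * C.w = C.T 1 B * C.H K * C.w * (C.T 1 B)⁻¹)
include hS

/-- The relation for an arbitrary central element. -/
theorem struct_at (x : Fˣ) : C.w * C.T 0 (nm φ (x : F)) * C.w =
    C.T (x : F)⁻¹ (B / nm φ (x : F)) * C.H (K / x ^ 2) * C.w *
      (C.T (x : F)⁻¹ (B / nm φ (x : F)))⁻¹ := by
  have hz : C.T 0 (nm φ (x : F)) = C.H x * C.T 0 1 * (C.H x)⁻¹ := by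
    rw [C.H_conj, mul_zero, mul_one]
  have hg : C.T (x : F)⁻¹ (B / nm φ (x : F)) = C.H x⁻¹ * C.T 1 B * (C.H x⁻¹)⁻¹ := by
    rw [C.H_conj, mul_one, Units.val_inv_eq_inv_val, nm_inv, inv_mul_eq_div]
  have hh : C.H (K / x ^ 2) = C.H x⁻¹ * C.H K * C.H x⁻¹ := by
    rw [← map_mul, ← map_mul]; congr 1; rw [pow_two, div_eq_mul_inv]; simp [mul_comm, mul_left_comm]
  calc C.w * C.T 0 (nm φ (x : F)) * C.w
      = (C.w * C.H x * C.w) * (C.w * C.T 0 1 * C.w) * (C.w * C.H x * C.w)⁻¹ := by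
        rw [hz, mul_inv_rev, mul_inv_rev, C.w_inv]
        simp only [mul_assoc]
        rw [show C.w * (C.w * (C.T 0 1 * (C.w * (C.w * ((C.H x)⁻¹ * C.w))))) =
          (C.w * C.w) * C.T 0 1 * (C.w * C.w) * ((C.H x)⁻¹ * C.w) by group, C.w_sq, one_mul, mul_one]
    _ = C.H x⁻¹ * (C.T 1 B * C.H K * C.w * (C.T 1 B)⁻¹) * (C.H x⁻¹)⁻¹ := by rw [C.w_H, hS, map_inv]
    _ = C.H x⁻¹ * C.T 1 B * C.H K * (C.w * (C.H x⁻¹)⁻¹) * (C.H x⁻¹ * C.T 1 B * (C.H x⁻¹)⁻¹)⁻¹ := by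
        group
    _ = _ := by
        rw [← hg, hh, hg, ← map_inv, inv_inv, C.w_mul_H]
        simp only [map_inv]
        group

theorem w_smul_z (x : Fˣ) : C.w • C.pt 0 (nm φ (x : F)) = C.pt (x : F)⁻¹ (B / nm φ (x : F)) := by
  have h := congrArg (fun g : G => g • oo) (C.struct_at hS x)
  simp only [struct_smul_oo] at h
  rwa [mul_smul, mul_smul, C.w_oo] at h

/-- The first family. -/
theorem w_smul_P (t u : F) (ht : t ≠ 0) (hu : u ≠ 0) (hN : nm φ u = 1 + nm φ t) :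
    C.w • C.pt (1 + t⁻¹) (B + 1 + B / nm φ t + t⁻¹) =
      C.H K⁻¹ • C.pt (1 + u⁻¹) (B + 1 + B / nm φ u + u⁻¹) := by
  have hg : ∀ x : F, (C.T 1 B)⁻¹ • C.pt x⁻¹ (B / nm φ x) = C.pt (1 + x⁻¹) (B + 1 + B / nm φ x + x⁻¹) := by
    intro x
    rw [C.T_inv, T_smul_pt]
    congr 1
    simp [nm]
  have e : C.w * C.T 0 (nm φ u) * C.w = (C.w * C.T 0 1 * C.w) * (C.w * C.T 0 (nm φ t) * C.w) := by
    rw [show C.w * C.T 0 1 * C.w * (C.w * C.T 0 (nm φ t) * C.w) =
      C.w * C.T 0 1 * (C.w * C.w) * C.T 0 (nm φ t) * C.w by group, C.w_sq, mul_one, mul_assoc C.w (C.T 0 1),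
      C.T_mul, hN]
    simp
  rw [C.struct_at hS (Units.mk0 u hu) |> fun h => (show C.w * C.T 0 (nm φ u) * C.w = _ from h),
    C.struct_at hS (Units.mk0 t ht) |> fun h => (show C.w * C.T 0 (nm φ t) * C.w = _ from h), hS] at e
  have h := congrArg (fun g : G => g • oo) e
  simp only [struct_smul_oo] at h
  rw [mul_smul, struct_smul_oo, mul_smul, mul_smul, mul_smul] at h
  simp only [Units.val_mk0] at h
  rw [map_inv, eq_inv_smul_iff, ← hg, ← hg, eq_inv_smul_iff]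
  exact h.symm

/-- The relation for a non-central element. -/
theorem w_T_w : C.w * (C.T 1 B)⁻¹ * C.w =
    (C.T (K : F)⁻¹ (B / nm φ (K : F)))⁻¹ * C.H K⁻¹ * C.w * C.T 0 1 := by
  have hg : C.T (K : F)⁻¹ (B / nm φ (K : F)) = (C.H K)⁻¹ * C.T 1 B * C.H K := by
    rw [show (C.H K)⁻¹ * C.T 1 B * C.H K = C.H K⁻¹ * C.T 1 B * (C.H K⁻¹)⁻¹ by simp [map_inv],
      C.H_conj, mul_one, Units.val_inv_eq_inv_val, nm_inv, inv_mul_eq_div]
  have hz : (C.T 0 1)⁻¹ = C.T 0 1 := by rw [C.T_inv, nm_zero, add_zero]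
  have hgw : C.w * C.T 1 B * C.w = C.T 0 1 * C.w * C.T 1 B * C.H K := by
    have h1 : C.T 1 B * C.H K * C.w = C.w * C.T 0 1 * C.w * C.T 1 B := by rw [hS]; group
    have h2 : C.T 1 B * C.H K = C.w * C.T 0 1 * C.w * C.T 1 B * C.w := by
      rw [← h1, mul_assoc _ C.w C.w, C.w_sq, mul_one]
    rw [mul_assoc (C.T 0 1 * C.w), h2, show C.T 0 1 * C.w * (C.w * C.T 0 1 * C.w * C.T 1 B * C.w) =
      C.T 0 1 * (C.w * C.w) * C.T 0 1 * (C.w * C.T 1 B * C.w) by group, C.w_sq, mul_one]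
    nth_rw 2 [← hz]
    rw [mul_inv_cancel, one_mul]
  have h := congrArg (·⁻¹) hgw
  simp only [mul_inv_rev, C.w_inv, hz] at h
  rw [← mul_assoc] at h
  rw [h, map_inv, hg]
  group

/-- The shift. -/
theorem w_smul_shift (s : F) (hs : s ≠ 0) :
    C.w • C.pt 1 (B + 1 + nm φ s) =
      (C.T (K : F)⁻¹ (B / nm φ (K : F)))⁻¹ • C.H K⁻¹ • C.w • C.pt s⁻¹ (B / nm φ s + 1) := by
  have h1 : C.T 1 (B + 1 + nm φ s) = (C.T 1 B)⁻¹ * C.T 0 (nm φ s) := by
    rw [C.T_inv, C.T_mul, nm_one, mul_zero, add_zero, add_zero]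
  calc C.w • C.pt 1 (B + 1 + nm φ s)
      = (C.w * (C.T 1 B)⁻¹ * C.w * (C.w * C.T 0 (nm φ s) * C.w)) • oo := by
        rw [show C.w * (C.T 1 B)⁻¹ * C.w * (C.w * C.T 0 (nm φ s) * C.w) =
          C.w * (C.T 1 B)⁻¹ * (C.w * C.w) * C.T 0 (nm φ s) * C.w by group, C.w_sq, mul_one,
          pt, h1, mul_smul, mul_smul, mul_smul, mul_smul, C.w_oo]
    _ = _ := by
        rw [C.w_T_w hS, show C.w * C.T 0 (nm φ s) * C.w = _ from C.struct_at hS (Units.mk0 s hs),
          mul_smul, struct_smul_oo, mul_smul, mul_smul, mul_smul, T_smul_pt]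
        simp [add_comm]

variable (hinj : Function.Injective (nm φ))
include hinj

/-- Key consequences. -/
theorem equation (t u : F) (ht0 : t ≠ 0) (ht1 : t ≠ 1) (hN : nm φ u = 1 + nm φ t) :
    nm φ t + B * t + (1 + B) * φ t ≠ 0 ∧
    (nm φ t + B * t + (1 + B) * φ t) * nm φ (1 + u) =
      nm φ (K : F) * nm φ t ^ 2 * nm φ (1 + u + t) := by
  have h2 := two_zero (F := F)
  have hb := nm_ne φ ht0
  have hY : φ t ≠ 0 := by simpa using ht0
  have hu0 : u ≠ 0 := fun e => ht1 (hinj (by rw [e, nm_zero] at hN; rw [nm_one]; linear_combination (norm := grind) hN))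
  have hu1 : u ≠ 1 := fun e => hb (by rw [e, nm_one] at hN; linear_combination (norm := grind) hN)
  have hu' : 1 + u⁻¹ ≠ 0 := fun e => hu1 (inv_eq_one.1 (by linear_combination (norm := grind) e))
  set a := 1 + t⁻¹ with ha
  have ha0 : a ≠ 0 := fun e => ht1 (inv_eq_one.1 (by linear_combination (norm := grind) e))
  have hNa : nm φ a ≠ 0 := nm_ne φ ha0
  set num := B + 1 + B / nm φ t + t⁻¹ with hnum
  have hP := C.w_smul_P hS t u ht0 hu0 hN
  rw [H_smul_pt] at hP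
  set r := num / nm φ a with hr
  have hne : r + B ≠ 0 := by
    intro e
    have hrB : num = nm φ a * B := by
      rw [show num = r * nm φ a by rw [hr, div_mul_cancel₀ _ hNa]]
      linear_combination (norm := grind) nm φ a * e
    have h1 := C.w_smul_z hS (Units.mk0 a ha0)⁻¹
    rw [Units.val_inv_eq_inv_val, Units.val_mk0, inv_inv, nm_inv, div_inv_eq_mul, mul_comm B, ← hrB] at h1
    rw [← h1, smul_smul, C.w_sq, one_smul] at hP
    exact mul_ne_zero (Units.ne_zero _) hu' (C.pt_inj hP).1.symm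
  -- the shift
  obtain ⟨s, hs⟩ := nm_surjective φ hinj (r + B)
  have hs0 : s ≠ 0 := fun e => hne (by rw [← hs, e, nm_zero])
  have hsh := C.w_smul_shift hS s hs0
  -- the right hand side
  have hsa : (Units.mk0 (s * a) (mul_ne_zero hs0 ha0) : Fˣ)⁻¹ = Units.mk0 (s * a)⁻¹ (inv_ne_zero (mul_ne_zero hs0 ha0)) :=
    Units.ext (by simp)
  have hv : C.pt s⁻¹ (B / nm φ s + 1) = C.H (Units.mk0 (s * a) (mul_ne_zero hs0 ha0))⁻¹ • C.pt a num := by
    rw [H_smul_pt, hsa, Units.val_mk0]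
    congr 1
    · field_simp
    · have hns := nm_ne φ hs0
      have : num = r * nm φ a := by rw [hr, div_mul_cancel₀ _ hNa]
      rw [this, nm_inv, nm_mul]
      field_simp
      linear_combination (norm := grind) hs
  have hR : C.w • C.pt s⁻¹ (B / nm φ s + 1) = C.pt ((s * a) * ((K : F)⁻¹ * (1 + u⁻¹)))
      (nm φ (s * a) * (nm φ (K : F)⁻¹ * (B + 1 + B / nm φ u + u⁻¹))) := by
    rw [hv, smul_smul, C.w_mul_H, inv_inv, mul_smul, hP, H_smul_pt, Units.val_mk0, Units.val_inv_eq_inv_val]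
  -- the left hand side
  have hu'' : nm φ (u / t) = 1 + nm φ t⁻¹ := by rw [nm_div, nm_inv, hN]; field_simp; ring
  have hP' := C.w_smul_P hS t⁻¹ (u / t) (inv_ne_zero ht0) (div_ne_zero hu0 ht0) hu''
  rw [H_smul_pt, inv_inv] at hP'
  have ht' : 1 + t ≠ 0 := fun e => ht1 (by linear_combination (norm := grind) e)
  have hY1 : 1 + φ t ≠ 0 := fun e => ht' (φ.injective (by rw [map_add, map_one, e, map_zero]))
  have hl : C.pt 1 (B + 1 + nm φ s) = C.H (Units.mk0 (1 + t) ht')⁻¹ • C.pt (1 + t) (B + 1 + B / nm φ t⁻¹ + t) := by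
    rw [H_smul_pt, Units.val_inv_eq_inv_val, Units.val_mk0, inv_mul_cancel₀ ht', nm_inv]
    congr 1
    rw [eq_inv_mul_iff_mul_eq₀ (nm_ne φ ht'), hs]
    have hna : nm φ a = nm φ (1 + t) / nm φ t := by rw [← nm_div, ha]; congr 1; field_simp; ring
    rw [hr, hna]
    have hn1 := nm_ne φ ht'
    simp only [hnum, nm, map_add, map_one, map_inv₀] at hn1 ⊢
    field_simp
    ring_nf
    grind
  rw [hl, smul_smul, C.w_mul_H, inv_inv, mul_smul, hP', H_smul_pt, hR, H_smul_pt, C.T_inv, T_smul_pt] at hsh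
  have e := (C.pt_inj hsh).1
  simp only [Units.val_mk0, Units.val_inv_eq_inv_val] at e
  have hK : (K : F) ≠ 0 := K.ne_zero
  have e' : s * ((1 + t) * (1 + u)) = (K : F) * t ^ 2 * (1 + u + t) := by
    simp only [ha] at e
    field_simp at e
    grind
  have e'' := congrArg (nm φ) e'
  rw [nm_mul, nm_mul, nm_mul, nm_mul, hs, show nm φ (t ^ 2) = nm φ t ^ 2 by rw [pow_two, nm_mul, pow_two]] at e''
  have key : (r + B) * nm φ (1 + t) = nm φ t + B * t + (1 + B) * φ t := by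
    have hna : nm φ a = nm φ (1 + t) / nm φ t := by rw [← nm_div, ha]; congr 1; field_simp; ring
    rw [hr, hna]
    have hn1 := nm_ne φ ht'
    simp only [hnum, nm, map_add, map_one, map_inv₀] at hn1 ⊢
    field_simp
    ring_nf
    grind
  exact ⟨key ▸ mul_ne_zero hne (nm_ne φ ht'), by rw [← key, ← e'']; ring⟩

end Coords

end CfsgLib.SuzUniq
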